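import Mathlib
import Cfsg.Prelude.Def_Classical
import Cfsg.Agent.LieClassical.HermBasic
import Cfsg.Agent.LieClassical.GUOrder
import Cfsg.Agent.H94.Pronormal
import Cfsg.Agent.H95.SelfNorm
import Cfsg.Agent.H1.Over
import Cfsg.Agent.KFacts.RgdSyl
import Cfsg.Agent.Nodes.NormalForm
set_option linter.all false

-- part: H95/Wreath
section
/-!
# Wreathed 2-groups of matrices and their normalisers (helper95)

`dg a b` block diagonal, `sw` the swap; `Fam` a family of subgroups of `GL` closed under blocks (`GL`, `GU`);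
`Good 𝓕 R` : `R` is a 2-subgroup of `𝓕.L ι` with `N(R) = R Z`; `Good.step`, `norm_sl`: for `T = (R ≀ 2) ∩ SL` the
normaliser of `T` is contained in `(R ≀ 2) Z`.
-/

set_option autoImplicit false

namespace Cfsg.Agent.H95.Wreath

open Matrix

variable {F : Type*} [Field F] {ι : Type} [Fintype ι] [DecidableEq ι]

/-- block diagonal matrix -/
def dg (a b : GL ι F) : GL (ι ⊕ ι) F where
  val := fromBlocks (a : Matrix ι ι F) 0 0 (b : Matrix ι ι F)
  inv := fromBlocks ((a⁻¹ : GL ι F) : Matrix ι ι F) 0 0 ((b⁻¹ : GL ι F) : Matrix ι ι F)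
  val_inv := by
    rw [fromBlocks_multiply, ← fromBlocks_one, ← Units.val_mul, ← Units.val_mul]
    simp
  inv_val := by
    rw [fromBlocks_multiply, ← fromBlocks_one, ← Units.val_mul, ← Units.val_mul]
    simp

/-- the swap of the two blocks -/
def sw : GL (ι ⊕ ι) F where
  val := fromBlocks 0 1 1 0
  inv := fromBlocks 0 1 1 0
  val_inv := by rw [fromBlocks_multiply, ← fromBlocks_one]; simp
  inv_val := by rw [fromBlocks_multiply, ← fromBlocks_one]; simp

theorem dg_val (a b : GL ι F) :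
    ((dg a b : GL (ι ⊕ ι) F) : Matrix (ι ⊕ ι) (ι ⊕ ι) F) = fromBlocks (a : Matrix ι ι F) 0 0 b := rfl

theorem sw_val : ((sw : GL (ι ⊕ ι) F) : Matrix (ι ⊕ ι) (ι ⊕ ι) F) = fromBlocks 0 1 1 0 := rfl

theorem dg_mul (a b c d : GL ι F) : dg a b * dg c d = dg (a * c) (b * d) := by
  apply Units.ext
  rw [Units.val_mul, dg_val, dg_val, dg_val, fromBlocks_multiply]
  simp

theorem dg_one : dg (1 : GL ι F) 1 = 1 := by
  apply Units.ext
  rw [dg_val]
  exact fromBlocks_one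

theorem dg_inv (a b : GL ι F) : (dg a b)⁻¹ = dg a⁻¹ b⁻¹ := by
  rw [inv_eq_iff_mul_eq_one, dg_mul, mul_inv_cancel, mul_inv_cancel, dg_one]

theorem dg_inj {a b c d : GL ι F} (h : dg a b = dg c d) : a = c ∧ b = d := by
  have h1 := congrArg Units.val h
  rw [dg_val, dg_val, fromBlocks_inj] at h1
  exact ⟨Units.ext h1.1, Units.ext h1.2.2.2⟩

theorem sw_mul_sw : (sw : GL (ι ⊕ ι) F) * sw = 1 := by
  apply Units.ext
  rw [Units.val_mul, sw_val, fromBlocks_multiply]
  simp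

theorem sw_inv : (sw : GL (ι ⊕ ι) F)⁻¹ = sw := by
  rw [inv_eq_iff_mul_eq_one, sw_mul_sw]

theorem sw_dg (a b : GL ι F) : sw * dg a b = dg b a * sw := by
  apply Units.ext
  rw [Units.val_mul, Units.val_mul, dg_val, dg_val, sw_val, fromBlocks_multiply, fromBlocks_multiply]
  simp

theorem dg_sw_ne [Nonempty ι] (a b c d : GL ι F) : dg a b * sw ≠ dg c d := by
  intro h
  have h1 := congrArg Units.val h
  rw [Units.val_mul, dg_val, dg_val, sw_val, fromBlocks_multiply] at h1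
  rw [fromBlocks_inj] at h1
  have h2 : (0 : Matrix ι ι F) = c := by simpa using h1.1
  obtain ⟨i⟩ := ‹Nonempty ι›
  have h3 : (c : Matrix ι ι F) * ((c⁻¹ : GL ι F) : Matrix ι ι F) = 1 := by
    rw [← Units.val_mul, mul_inv_cancel]; rfl
  rw [← h2, zero_mul] at h3
  have h4 := congrFun (congrFun h3 i) i
  simp at h4

theorem det_dg (a b : GL ι F) : (dg a b : Matrix (ι ⊕ ι) (ι ⊕ ι) F).det =
    (a : Matrix ι ι F).det * (b : Matrix ι ι F).det := by
  rw [dg_val, det_fromBlocks_zero₂₁]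

/-- the determinant of the swap -/
theorem det_sw (hev : Even (Fintype.card ι)) : ((sw : GL (ι ⊕ ι) F) : Matrix (ι ⊕ ι) (ι ⊕ ι) F).det = 1 := by
  have h1 : fromBlocks (0 : Matrix ι ι F) (1 : Matrix ι ι F) (1 : Matrix ι ι F) (0 : Matrix ι ι F) =
      fromBlocks (1 : Matrix ι ι F) (0 : Matrix ι ι F) (0 : Matrix ι ι F) (-1 : Matrix ι ι F) *
      (fromBlocks (1 : Matrix ι ι F) (1 : Matrix ι ι F) (0 : Matrix ι ι F) (1 : Matrix ι ι F) *
        fromBlocks (1 : Matrix ι ι F) (0 : Matrix ι ι F) (-1 : Matrix ι ι F) (1 : Matrix ι ι F) *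
        fromBlocks (1 : Matrix ι ι F) (1 : Matrix ι ι F) (0 : Matrix ι ι F) (1 : Matrix ι ι F)) := by
    rw [fromBlocks_multiply, fromBlocks_multiply, fromBlocks_multiply]
    congr 1 <;> simp
  rw [sw_val, h1, det_mul, det_mul, det_mul]
  simp only [det_fromBlocks_zero₂₁, det_fromBlocks_zero₁₂, det_one, mul_one, one_mul]
  rw [det_neg, det_one, mul_one, hev.neg_one_pow]

/-- a family of groups of matrices closed under blocks -/
structure Fam (F : Type*) [Field F] where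
  L : ∀ (ι : Type) [Fintype ι] [DecidableEq ι], Subgroup (GL ι F)
  blk : ∀ (ι : Type) [Fintype ι] [DecidableEq ι] (a b : GL ι F), dg a b ∈ L (ι ⊕ ι) ↔ a ∈ L ι ∧ b ∈ L ι
  sw_mem : ∀ (ι : Type) [Fintype ι] [DecidableEq ι], (sw : GL (ι ⊕ ι) F) ∈ L (ι ⊕ ι)

/-- scalar matrices -/
def sc (ι : Type) [Fintype ι] [DecidableEq ι] (c : Fˣ) : GL ι F := Units.map (algebraMap F (Matrix ι ι F)).toMonoidHom c

theorem sc_val (c : Fˣ) : ((sc ι c : GL ι F) : Matrix ι ι F) = algebraMap F (Matrix ι ι F) c := rfl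

theorem sc_mul (c d : Fˣ) : sc ι (c * d) = sc ι c * sc ι d := map_mul (Units.map _) c d

theorem sc_one : sc ι (1 : Fˣ) = 1 := map_one (Units.map _)

theorem sc_inv (c : Fˣ) : sc ι c⁻¹ = (sc ι c)⁻¹ := map_inv (Units.map _) c

theorem sc_pow (c : Fˣ) (n : ℕ) : sc ι (c ^ n) = sc ι c ^ n := map_pow (Units.map _) c n

theorem sc_comm (c : Fˣ) (g : GL ι F) : sc ι c * g = g * sc ι c := by
  apply Units.ext
  rw [Units.val_mul, Units.val_mul, sc_val]
  exact Algebra.commutes _ _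

theorem sc_sum (c : Fˣ) : sc (ι ⊕ ι) c = dg (sc ι c) (sc ι c) := by
  apply Units.ext
  rw [dg_val, sc_val, sc_val, Algebra.algebraMap_eq_smul_one, Algebra.algebraMap_eq_smul_one, ← fromBlocks_one,
    fromBlocks_smul, smul_zero]

theorem det_sc (c : Fˣ) : (sc ι c : Matrix ι ι F).det = (c : F) ^ Fintype.card ι := by
  rw [sc_val, Algebra.algebraMap_eq_smul_one, det_smul, det_one, mul_one]

/-- the wreathed group -/
def wr (R : Subgroup (GL ι F)) : Subgroup (GL (ι ⊕ ι) F) where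
  carrier := {g | ∃ a ∈ R, ∃ b ∈ R, g = dg a b ∨ g = dg a b * sw}
  mul_mem' := by
    rintro _ _ ⟨a, ha, b, hb, rfl | rfl⟩ ⟨c, hc, d, hd, rfl | rfl⟩
    · exact ⟨_, mul_mem ha hc, _, mul_mem hb hd, Or.inl (dg_mul _ _ _ _)⟩
    · exact ⟨_, mul_mem ha hc, _, mul_mem hb hd, Or.inr (by rw [← mul_assoc, dg_mul])⟩
    · exact ⟨_, mul_mem ha hd, _, mul_mem hb hc, Or.inr (by rw [mul_assoc, sw_dg, ← mul_assoc, dg_mul])⟩
    · exact ⟨_, mul_mem ha hd, _, mul_mem hb hc, Or.inl (by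
        rw [mul_assoc, ← mul_assoc sw, sw_dg, mul_assoc (dg d c), sw_mul_sw, mul_one, dg_mul])⟩
  one_mem' := ⟨1, one_mem _, 1, one_mem _, Or.inl dg_one.symm⟩
  inv_mem' := by
    rintro _ ⟨a, ha, b, hb, rfl | rfl⟩
    · exact ⟨_, inv_mem ha, _, inv_mem hb, Or.inl (dg_inv _ _)⟩
    · exact ⟨_, inv_mem hb, _, inv_mem ha, Or.inr (by rw [_root_.mul_inv_rev, sw_inv, dg_inv, sw_dg])⟩

theorem mem_wr {R : Subgroup (GL ι F)} {g : GL (ι ⊕ ι) F} :
    g ∈ wr R ↔ ∃ a ∈ R, ∃ b ∈ R, g = dg a b ∨ g = dg a b * sw := Iff.rfl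

theorem dg_mem_wr [Nonempty ι] {R : Subgroup (GL ι F)} {a b : GL ι F} : dg a b ∈ wr R ↔ a ∈ R ∧ b ∈ R := by
  constructor
  · rintro ⟨c, hc, d, hd, h | h⟩
    · obtain ⟨rfl, rfl⟩ := dg_inj h
      exact ⟨hc, hd⟩
    · exact absurd h.symm (dg_sw_ne _ _ _ _)
  · rintro ⟨ha, hb⟩
    exact ⟨a, ha, b, hb, Or.inl rfl⟩

theorem sw_mem_wr {R : Subgroup (GL ι F)} : (sw : GL (ι ⊕ ι) F) ∈ wr R :=
  ⟨1, one_mem _, 1, one_mem _, Or.inr (by rw [dg_one, one_mul])⟩

theorem dg_sw_mem_wr [Nonempty ι] {R : Subgroup (GL ι F)} {a b : GL ι F} : dg a b * sw ∈ wr R ↔ a ∈ R ∧ b ∈ R := by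
  rw [← dg_mem_wr (R := R)]
  constructor
  · intro h
    have := mul_mem h (sw_mem_wr (R := R))
    rwa [mul_assoc, sw_mul_sw, mul_one] at this
  · intro h
    exact mul_mem h sw_mem_wr

/-- the part of determinant one -/
def sl (R : Subgroup (GL ι F)) : Subgroup (GL ι F) where
  carrier := {g | g ∈ R ∧ (g : Matrix ι ι F).det = 1}
  mul_mem' := by
    rintro a b ⟨ha, ha'⟩ ⟨hb, hb'⟩
    exact ⟨mul_mem ha hb, by rw [Units.val_mul, det_mul, ha', hb', one_mul]⟩
  one_mem' := ⟨one_mem _, by rw [Units.val_one, det_one]⟩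
  inv_mem' := by
    rintro a ⟨ha, ha'⟩
    refine ⟨inv_mem ha, ?_⟩
    have h1 : (a : Matrix ι ι F) * ((a⁻¹ : GL ι F) : Matrix ι ι F) = 1 := by
      rw [← Units.val_mul, mul_inv_cancel]; rfl
    have h2 := congrArg Matrix.det h1
    rw [det_mul, ha', one_mul, det_one] at h2
    exact h2

theorem mem_sl {R : Subgroup (GL ι F)} {g : GL ι F} : g ∈ sl R ↔ g ∈ R ∧ (g : Matrix ι ι F).det = 1 := Iff.rfl

theorem det_inv_eq {a : GL ι F} : ((a⁻¹ : GL ι F) : Matrix ι ι F).det = ((a : Matrix ι ι F).det)⁻¹ := by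
  have h1 : (a : Matrix ι ι F) * ((a⁻¹ : GL ι F) : Matrix ι ι F) = 1 := by
    rw [← Units.val_mul, mul_inv_cancel]; rfl
  have h2 := congrArg Matrix.det h1
  rw [det_mul, det_one] at h2
  exact eq_inv_of_mul_eq_one_right h2

theorem det_ne {a : GL ι F} : (a : Matrix ι ι F).det ≠ 0 := by
  intro h
  have h1 : (a : Matrix ι ι F) * ((a⁻¹ : GL ι F) : Matrix ι ι F) = 1 := by
    rw [← Units.val_mul, mul_inv_cancel]; rfl
  have h2 := congrArg Matrix.det h1
  rw [det_mul, det_one, h, zero_mul] at h2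
  exact zero_ne_one h2

/-- the good 2-subgroups -/
structure Good (𝓕 : Fam F) (R : Subgroup (GL ι F)) : Prop where
  le : R ≤ 𝓕.L ι
  two : ∀ g ∈ R, ∃ k : ℕ, g ^ 2 ^ k = 1
  scal : ∀ c : Fˣ, sc ι c ∈ 𝓕.L ι → (∃ k : ℕ, c ^ 2 ^ k = 1) → sc ι c ∈ R
  norm : ∀ x ∈ 𝓕.L ι, (∀ r ∈ R, x * r * x⁻¹ ∈ R) → ∃ c : Fˣ, sc ι c * x ∈ R
  cen : ∀ a : GL ι F, a * a = 1 → (∀ r ∈ sl R, a * r = r * a) → a = 1 ∨ a = -1
  three : ∃ r ∈ sl R, r ≠ 1 ∧ r * r ≠ 1

/-- the involution `diag(1,-1)` -/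
def zz : GL (ι ⊕ ι) F := dg 1 (-1 : GL ι F)

theorem zz_mul : (zz : GL (ι ⊕ ι) F) * zz = 1 := by
  rw [zz, dg_mul, mul_one, neg_mul_neg, mul_one, dg_one]

theorem zz_inv : (zz : GL (ι ⊕ ι) F)⁻¹ = zz := by
  rw [inv_eq_iff_mul_eq_one, zz_mul]

theorem neg_dg (a b : GL ι F) : -dg a b = dg (-a) (-b) := by
  apply Units.ext
  rw [Units.val_neg, dg_val, dg_val, fromBlocks_neg]
  simp

theorem sw_zz : (sw : GL (ι ⊕ ι) F) * zz * sw⁻¹ = -(zz : GL (ι ⊕ ι) F) := by
  rw [zz, sw_dg, mul_assoc, mul_inv_cancel, mul_one, neg_dg, neg_neg]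

theorem det_zz (hev : Even (Fintype.card ι)) : ((zz : GL (ι ⊕ ι) F) : Matrix (ι ⊕ ι) (ι ⊕ ι) F).det = 1 := by
  rw [zz, det_dg, Units.val_neg, Units.val_one, det_neg, det_one, hev.neg_one_pow, mul_one, mul_one]

/-- commuting with `diag(1,-1)` -/
theorem exists_dg_of_comm (h2 : (2 : F) ≠ 0) {x : GL (ι ⊕ ι) F}
    (hx : x * zz = zz * x) : ∃ a b : GL ι F, x = dg a b := by
  have key : ∀ y : GL (ι ⊕ ι) F, y * zz = zz * y →
      ∃ A D : Matrix ι ι F, (y : Matrix (ι ⊕ ι) (ι ⊕ ι) F) = fromBlocks A 0 0 D := by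
    intro y hy
    have h1 := congrArg Units.val hy
    rw [Units.val_mul, Units.val_mul, zz, dg_val] at h1
    obtain ⟨A, B, C, D, hABCD⟩ : ∃ A B C D : Matrix ι ι F,
        (y : Matrix (ι ⊕ ι) (ι ⊕ ι) F) = fromBlocks A B C D :=
      ⟨_, _, _, _, (fromBlocks_toBlocks _).symm⟩
    rw [hABCD, fromBlocks_multiply, fromBlocks_multiply, fromBlocks_inj] at h1
    obtain ⟨-, hB, hC, -⟩ := h1
    have two_smul_eq : ∀ M : Matrix ι ι F, M = -M → M = 0 := by
      intro M hM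
      ext i j
      have h3 := congrFun (congrFun hM i) j
      rw [Matrix.neg_apply] at h3
      have h4 : 2 * M i j = 0 := by linear_combination h3
      rcases mul_eq_zero.1 h4 with h5 | h5
      · exact absurd h5 h2
      · rw [h5]; rfl
    have hB' : B = 0 := by
      apply two_smul_eq
      have := hB
      simp only [mul_zero, zero_add, Units.val_neg, Units.val_one, mul_neg, mul_one, one_mul, zero_mul,
        add_zero] at this
      exact this.symm
    have hC' : C = 0 := by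
      apply two_smul_eq
      have := hC
      simp only [mul_zero, zero_add, Units.val_neg, Units.val_one, mul_one, one_mul, zero_mul,
        add_zero, neg_mul] at this
      exact this
    exact ⟨A, D, by rw [hABCD, hB', hC']⟩
  have hx' : x⁻¹ * zz = zz * x⁻¹ := by
    calc x⁻¹ * zz = x⁻¹ * (zz * x) * x⁻¹ := by group
      _ = x⁻¹ * (x * zz) * x⁻¹ := by rw [hx]
      _ = zz * x⁻¹ := by group
  obtain ⟨A, D, h1⟩ := key x hx
  obtain ⟨A', D', h3⟩ := key x⁻¹ hx'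
  have h4 : (x : Matrix (ι ⊕ ι) (ι ⊕ ι) F) * ((x⁻¹ : GL (ι ⊕ ι) F) : Matrix (ι ⊕ ι) (ι ⊕ ι) F) = 1 := by
    rw [← Units.val_mul, mul_inv_cancel]; rfl
  have h5 : ((x⁻¹ : GL (ι ⊕ ι) F) : Matrix (ι ⊕ ι) (ι ⊕ ι) F) * (x : Matrix (ι ⊕ ι) (ι ⊕ ι) F) = 1 := by
    rw [← Units.val_mul, inv_mul_cancel]; rfl
  rw [h1, h3, fromBlocks_multiply, ← fromBlocks_one, fromBlocks_inj] at h4 h5
  simp only [mul_zero, add_zero, zero_add, zero_mul] at h4 h5
  refine ⟨⟨A, A', h4.1, h5.1⟩, ⟨D, D', h4.2.2.2, h5.2.2.2⟩, ?_⟩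
  apply Units.ext
  rw [h1, dg_val]

/-! ### the characteristic pair of involutions -/

/-- `u` is a noncentral involution with at most two conjugates under `T` -/
def Tw (T : Subgroup (GL ι F)) (u : GL ι F) : Prop :=
  u ∈ T ∧ u * u = 1 ∧ u ≠ 1 ∧ u ≠ -1 ∧ ∀ g ∈ T, ∀ h ∈ T,
    g * u * g⁻¹ = u ∨ h * u * h⁻¹ = u ∨ g * u * g⁻¹ = h * u * h⁻¹

theorem Tw.conj {T : Subgroup (GL ι F)} {u x : GL ι F} (hu : Tw T u) (hx : ∀ t ∈ T, x * t * x⁻¹ ∈ T)
    (hx' : ∀ t ∈ T, x⁻¹ * t * x ∈ T) : Tw T (x * u * x⁻¹) := by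
  obtain ⟨h1, h2, h3, h4, h5⟩ := hu
  refine ⟨hx u h1, ?_, ?_, ?_, ?_⟩
  · calc x * u * x⁻¹ * (x * u * x⁻¹) = x * (u * u) * x⁻¹ := by group
      _ = 1 := by rw [h2]; group
  · intro h
    apply h3
    calc u = x⁻¹ * (x * u * x⁻¹) * x := by group
      _ = 1 := by rw [h]; group
  · intro h
    apply h4
    calc u = x⁻¹ * (x * u * x⁻¹) * x := by group
      _ = -1 := by rw [h, mul_neg, mul_one, neg_mul, inv_mul_cancel]
  · intro g hg h hh
    have e1 : ∀ g : GL ι F, g * (x * u * x⁻¹) * g⁻¹ = x * ((x⁻¹ * g * x) * u * (x⁻¹ * g * x)⁻¹) * x⁻¹ := by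
      intro g; group
    have e2 : ∀ a b : GL ι F, x * a * x⁻¹ = x * b * x⁻¹ ↔ a = b := by
      intro a b
      rw [mul_left_inj, mul_right_inj]
    rw [e1, e1, e2, e2, e2]
    exact h5 _ (hx' g hg) _ (hx' h hh)

theorem eq_or_of_dg [Nonempty ι] {R : Subgroup (GL ι F)} (hev : Even (Fintype.card ι))
    (cen : ∀ a : GL ι F, a * a = 1 → (∀ r ∈ sl R, a * r = r * a) → a = 1 ∨ a = -1)
    (three : ∃ r ∈ sl R, r ≠ 1 ∧ r * r ≠ 1) {u : GL (ι ⊕ ι) F} (hu : Tw (sl (wr R)) u) :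
    u = zz ∨ u = -(zz : GL (ι ⊕ ι) F) := by
  obtain ⟨huT, huu, hu1, hu2, hP⟩ := hu
  have hsw : (sw : GL (ι ⊕ ι) F) ∈ sl (wr R) := ⟨sw_mem_wr, det_sw hev⟩
  have hd1 : ∀ r ∈ sl R, dg r 1 ∈ sl (wr R) := fun r hr =>
    ⟨dg_mem_wr.2 ⟨hr.1, one_mem _⟩, by rw [det_dg, hr.2, Units.val_one, det_one, mul_one]⟩
  have hd2 : ∀ r ∈ sl R, dg 1 r ∈ sl (wr R) := fun r hr =>
    ⟨dg_mem_wr.2 ⟨one_mem _, hr.1⟩, by rw [det_dg, hr.2, Units.val_one, det_one, mul_one]⟩
  have conj1 : ∀ r a b : GL ι F, dg r 1 * dg a b * (dg r 1)⁻¹ = dg (r * a * r⁻¹) b := by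
    intro r a b
    rw [dg_inv, dg_mul, dg_mul, one_mul, inv_one, mul_one]
  have conj2 : ∀ r a b : GL ι F, dg 1 r * dg a b * (dg 1 r)⁻¹ = dg a (r * b * r⁻¹) := by
    intro r a b
    rw [dg_inv, dg_mul, dg_mul, one_mul, inv_one, mul_one]
  have conjs : ∀ a b : GL ι F, sw * dg a b * sw⁻¹ = dg b a := by
    intro a b
    rw [sw_dg, mul_assoc, mul_inv_cancel, mul_one]
  have hne : ∀ {r a : GL ι F}, a * r ≠ r * a → r * a * r⁻¹ ≠ a := by
    intro r a h e
    apply h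
    calc a * r = (r * a * r⁻¹) * r := by rw [e]
      _ = r * a := by group
  obtain ⟨a, ha, b, hb, rfl | rfl⟩ := huT.1
  · rw [dg_mul, ← dg_one] at huu
    obtain ⟨haa, hbb⟩ := dg_inj huu
    have ha1 : a = 1 ∨ a = -1 := by
      by_contra hcon
      have : ∃ r ∈ sl R, a * r ≠ r * a := by
        by_contra hc
        push Not at hc
        exact hcon (cen a haa hc)
      obtain ⟨r, hr, hra⟩ := this
      have h1 := hP _ (hd1 r hr) _ hsw
      rw [conj1, conjs] at h1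
      have hab : b = a := by
        rcases h1 with h1 | h1 | h1
        · exact absurd (dg_inj h1).1 (hne hra)
        · exact (dg_inj h1).1
        · exact absurd ((dg_inj h1).1.trans (dg_inj h1).2) (hne hra)
      subst hab
      have h2 := hP _ (hd1 r hr) _ (hd2 r hr)
      rw [conj1, conj2] at h2
      rcases h2 with h2 | h2 | h2
      · exact hne hra (dg_inj h2).1
      · exact hne hra (dg_inj h2).2
      · exact hne hra (dg_inj h2).1
    have hb1 : b = 1 ∨ b = -1 := by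
      by_contra hcon
      have : ∃ r ∈ sl R, b * r ≠ r * b := by
        by_contra hc
        push Not at hc
        exact hcon (cen b hbb hc)
      obtain ⟨r, hr, hra⟩ := this
      have h1 := hP _ (hd2 r hr) _ hsw
      rw [conj2, conjs] at h1
      have hab : b = a := by
        rcases h1 with h1 | h1 | h1
        · exact absurd (dg_inj h1).2 (hne hra)
        · exact (dg_inj h1).1
        · exact absurd ((dg_inj h1).2.trans (dg_inj h1).1) (hne hra)
      subst hab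
      have h2 := hP _ (hd1 r hr) _ (hd2 r hr)
      rw [conj1, conj2] at h2
      rcases h2 with h2 | h2 | h2
      · exact hne hra (dg_inj h2).1
      · exact hne hra (dg_inj h2).2
      · exact hne hra (dg_inj h2).1
    rcases ha1 with rfl | rfl <;> rcases hb1 with rfl | rfl
    · exact absurd dg_one hu1
    · left; rfl
    · right
      rw [zz, neg_dg, neg_neg]
    · exact absurd (by rw [← dg_one, neg_dg]) hu2
  · exfalso
    obtain ⟨r, hr, hr1, hr2⟩ := three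
    have hc : ∀ s : GL ι F, dg s 1 * (dg a b * sw) * (dg s 1)⁻¹ = dg (s * a) (b * s⁻¹) * sw := by
      intro s
      rw [dg_inv, inv_one]
      calc dg s 1 * (dg a b * sw) * dg s⁻¹ 1 = dg s 1 * dg a b * (sw * dg s⁻¹ 1) := by
            simp only [mul_assoc]
        _ = dg (s * a) (b * s⁻¹) * sw := by
            rw [sw_dg, ← mul_assoc, dg_mul, dg_mul, one_mul, mul_one]
    have h1 := hP _ (hd1 r hr) _ (hd1 (r * r) (mul_mem hr hr))
    rw [hc, hc, mul_left_inj, mul_left_inj, mul_left_inj] at h1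
    rcases h1 with h1 | h1 | h1
    · exact hr1 (mul_eq_right.1 (dg_inj h1).1)
    · exact hr2 (mul_eq_right.1 (dg_inj h1).1)
    · have h2 := mul_right_cancel (dg_inj h1).1
      exact hr1 (mul_eq_left.1 h2.symm)

theorem tw_zz [Nonempty ι] {R : Subgroup (GL ι F)} (h2 : (2 : F) ≠ 0) (hev : Even (Fintype.card ι))
    (hR : (-1 : GL ι F) ∈ R) : Tw (sl (wr R)) (zz : GL (ι ⊕ ι) F) := by
  have hneg : (-1 : GL ι F) ≠ 1 := by
    intro h
    obtain ⟨i⟩ := ‹Nonempty ι›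
    have h1 : (-1 : F) = 1 := by
      simpa using congrFun (congrFun (congrArg (fun g : GL ι F => (g : Matrix ι ι F)) h) i) i
    apply h2
    linear_combination -h1
  refine ⟨⟨dg_mem_wr.2 ⟨one_mem _, hR⟩, det_zz hev⟩, zz_mul, ?_, ?_, ?_⟩
  · intro h
    rw [zz, ← dg_one] at h
    exact hneg (dg_inj h).2
  · intro h
    rw [zz, ← dg_one, neg_dg] at h
    exact hneg (dg_inj h).1.symm
  · have key : ∀ g ∈ sl (wr R), g * zz * g⁻¹ = zz ∨ g * zz * g⁻¹ = -(zz : GL (ι ⊕ ι) F) := by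
      rintro g ⟨⟨a, -, b, -, rfl | rfl⟩, -⟩
      · left
        rw [zz, dg_inv, dg_mul, dg_mul]
        congr 1
        · group
        · rw [mul_neg, mul_one, neg_mul, mul_inv_cancel]
      · right
        rw [_root_.mul_inv_rev]
        calc dg a b * sw * zz * (sw⁻¹ * (dg a b)⁻¹) = dg a b * (sw * zz * sw⁻¹) * (dg a b)⁻¹ := by
              simp only [mul_assoc]
          _ = -(dg a b * zz * (dg a b)⁻¹) := by rw [sw_zz, mul_neg, neg_mul]
          _ = -(zz : GL (ι ⊕ ι) F) := by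
              rw [zz, dg_inv, dg_mul, dg_mul]
              congr 2
              · group
              · rw [mul_neg, mul_one, neg_mul, mul_inv_cancel]
    intro g hg h hh
    rcases key g hg with h1 | h1
    · left; exact h1
    · rcases key h hh with h3 | h3
      · right; left; exact h3
      · right; right; rw [h1, h3]

theorem neg_one_eq_sc : (-1 : GL ι F) = sc ι (-1) := by
  apply Units.ext
  rw [sc_val, Units.val_neg, Units.val_neg, Units.val_one, Units.val_one, map_neg, map_one]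

theorem neg_one_mem_of_blk {𝓕 : Fam F} {R : Subgroup (GL ι F)} (hG : Good 𝓕 R) (h : (-1 : GL ι F) ∈ 𝓕.L ι) :
    (-1 : GL ι F) ∈ R := by
  rw [neg_one_eq_sc] at h ⊢
  refine hG.scal _ h ⟨1, ?_⟩
  rw [pow_one, neg_one_sq]

/-- conjugation by the inverse, in a finite group -/
theorem conj_inv_mem {G : Type*} [Group G] [Finite G] {T : Subgroup G} {x : G}
    (hx : ∀ t ∈ T, x * t * x⁻¹ ∈ T) : ∀ t ∈ T, x⁻¹ * t * x ∈ T := by
  have hpow : ∀ n : ℕ, ∀ t ∈ T, x ^ n * t * (x ^ n)⁻¹ ∈ T := by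
    intro n
    induction n with
    | zero => intro t ht; simpa using ht
    | succ n ih =>
      intro t ht
      have := hx _ (ih t ht)
      rw [pow_succ']
      convert this using 1
      group
  intro t ht
  have h1 := hpow (orderOf x - 1) t ht
  have e : x ^ (orderOf x - 1) = x⁻¹ := by
    symm
    rw [inv_eq_iff_mul_eq_one, ← pow_succ', Nat.sub_add_cancel (orderOf_pos x), pow_orderOf_eq_one]
  rwa [e, inv_inv] at h1

/-- **The normaliser of `(R ≀ 2) ∩ SL` is contained in `(R ≀ 2) Z`.** -/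
theorem norm_sl [Finite F] [Nonempty ι] {𝓕 : Fam F} {R : Subgroup (GL ι F)} (h2 : (2 : F) ≠ 0)
    (hev : Even (Fintype.card ι)) (hG : Good 𝓕 R) (hneg : (-1 : GL ι F) ∈ 𝓕.L ι) {x : GL (ι ⊕ ι) F}
    (hx : x ∈ 𝓕.L (ι ⊕ ι)) (hxT : ∀ t ∈ sl (wr R), x * t * x⁻¹ ∈ sl (wr R)) :
    ∃ c : Fˣ, sc (ι ⊕ ι) c * x ∈ wr R := by
  have hR1 := neg_one_mem_of_blk hG hneg
  have : Finite (GL (ι ⊕ ι) F) := inferInstance
  have hsw : (sw : GL (ι ⊕ ι) F) ∈ sl (wr R) := ⟨sw_mem_wr, det_sw hev⟩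
  -- the core: elements commuting with `zz`
  have core : ∀ x : GL (ι ⊕ ι) F, x ∈ 𝓕.L (ι ⊕ ι) → (∀ t ∈ sl (wr R), x * t * x⁻¹ ∈ sl (wr R)) →
      x * zz * x⁻¹ = zz → ∃ c : Fˣ, sc (ι ⊕ ι) c * x ∈ wr R := by
    intro x hx hxT hz
    obtain ⟨a, b, rfl⟩ := exists_dg_of_comm h2 (x := x) (by
      calc x * zz = (x * zz * x⁻¹) * x := by group
        _ = zz * x := by rw [hz])
    obtain ⟨ha, hb⟩ := (𝓕.blk ι a b).1 hx
    have hab : ∀ r ∈ R, a * r * a⁻¹ ∈ R ∧ b * r * b⁻¹ ∈ R := by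
      intro r hr
      have h1 : dg r r⁻¹ ∈ sl (wr R) :=
        ⟨dg_mem_wr.2 ⟨hr, inv_mem hr⟩, by rw [det_dg, det_inv_eq, mul_inv_cancel₀ det_ne]⟩
      have h3 := (hxT _ h1).1
      rw [dg_inv, dg_mul, dg_mul, dg_mem_wr] at h3
      refine ⟨h3.1, ?_⟩
      have h4 := inv_mem h3.2
      have e : (b * r⁻¹ * b⁻¹)⁻¹ = b * r * b⁻¹ := by group
      rwa [e] at h4
    obtain ⟨c1, hc1⟩ := hG.norm a ha fun r hr => (hab r hr).1
    obtain ⟨c2, hc2⟩ := hG.norm b hb fun r hr => (hab r hr).2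
    have h5 := (hxT _ hsw).1
    have e5 : dg a b * sw * (dg a b)⁻¹ = dg (a * b⁻¹) (b * a⁻¹) * sw := by
      rw [dg_inv, mul_assoc, sw_dg, ← mul_assoc, dg_mul]
    rw [e5, dg_sw_mem_wr] at h5
    -- `c1⁻¹ c2 ∈ R`
    refine ⟨c2, ?_⟩
    rw [sc_sum, dg_mul, dg_mem_wr]
    refine ⟨?_, hc2⟩
    have e6 : sc ι c2 * a = (a * b⁻¹) * (sc ι c2 * b) := by
      rw [← mul_assoc, ← sc_comm, mul_assoc, inv_mul_cancel_right]
    rw [e6]
    exact mul_mem h5.1 hc2
  have htw := (tw_zz (R := R) h2 hev hR1).conj hxT (conj_inv_mem hxT)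
  rcases eq_or_of_dg hev hG.cen hG.three htw with h | h
  · exact core x hx hxT h
  · have hx' : sw * x ∈ 𝓕.L (ι ⊕ ι) := mul_mem (𝓕.sw_mem ι) hx
    obtain ⟨c, hc⟩ := core (sw * x) hx' (by
        intro t ht
        have h3 := mul_mem (mul_mem hsw (hxT t ht)) (inv_mem hsw)
        have e : sw * (x * t * x⁻¹) * sw⁻¹ = sw * x * t * (sw * x)⁻¹ := by group
        rwa [e] at h3) (by
        calc sw * x * zz * (sw * x)⁻¹ = sw * (x * zz * x⁻¹) * sw⁻¹ := by group
          _ = -(sw * zz * sw⁻¹) := by rw [h, mul_neg, neg_mul]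
          _ = zz := by rw [sw_zz, neg_neg])
    refine ⟨c, ?_⟩
    have h4 := mul_mem (inv_mem (sw_mem_wr (R := R))) hc
    have e : (sw : GL (ι ⊕ ι) F)⁻¹ * (sc (ι ⊕ ι) c * (sw * x)) = sc (ι ⊕ ι) c * x := by
      rw [← mul_assoc, ← mul_assoc, ← sc_comm, mul_assoc (sc (ι ⊕ ι) c), inv_mul_cancel, mul_one]
    rwa [e] at h4

theorem dg_pow (a b : GL ι F) (n : ℕ) : dg a b ^ n = dg (a ^ n) (b ^ n) := by
  induction n with
  | zero => rw [pow_zero, pow_zero, pow_zero, dg_one]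
  | succ n ih => rw [pow_succ, pow_succ, pow_succ, ih, dg_mul]

/-- **The induction step.** -/
theorem Good.step [Finite F] [Nonempty ι] {𝓕 : Fam F} {R : Subgroup (GL ι F)} (h2 : (2 : F) ≠ 0)
    (hev : Even (Fintype.card ι)) (hG : Good 𝓕 R) (hneg : (-1 : GL ι F) ∈ 𝓕.L ι) : Good 𝓕 (wr R) where
  le := by
    rintro _ ⟨a, ha, b, hb, rfl | rfl⟩
    · exact (𝓕.blk ι a b).2 ⟨hG.le ha, hG.le hb⟩
    · exact mul_mem ((𝓕.blk ι a b).2 ⟨hG.le ha, hG.le hb⟩) (𝓕.sw_mem ι)
  two := by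
    have key : ∀ a ∈ R, ∀ b ∈ R, ∃ k : ℕ, dg a b ^ 2 ^ k = 1 := by
      intro a ha b hb
      obtain ⟨k, hk⟩ := hG.two a ha
      obtain ⟨l, hl⟩ := hG.two b hb
      refine ⟨k + l, ?_⟩
      rw [dg_pow, pow_add, pow_mul, hk, one_pow, mul_comm, pow_mul, hl, one_pow, dg_one]
    rintro _ ⟨a, ha, b, hb, rfl | rfl⟩
    · exact key a ha b hb
    · obtain ⟨k, hk⟩ := key (a * b) (mul_mem ha hb) (b * a) (mul_mem hb ha)
      refine ⟨k + 1, ?_⟩
      have e : (dg a b * sw) ^ 2 = dg (a * b) (b * a) := by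
        rw [pow_two, mul_assoc, ← mul_assoc sw, sw_dg, mul_assoc (dg b a), sw_mul_sw, mul_one, dg_mul]
      rw [pow_succ', pow_mul, e, hk]
  scal := by
    intro c hc hk
    rw [sc_sum] at hc ⊢
    have h1 := hG.scal c ((𝓕.blk ι _ _).1 hc).1 hk
    exact dg_mem_wr.2 ⟨h1, h1⟩
  norm := by
    intro x hx hxR
    refine norm_sl h2 hev hG hneg hx ?_
    rintro t ⟨ht, htd⟩
    refine ⟨hxR t ht, ?_⟩
    rw [Units.val_mul, Units.val_mul, det_mul, det_mul, htd, mul_one, det_inv_eq, mul_inv_cancel₀ det_ne]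
  cen := by
    intro a haa hc
    have hR1 := neg_one_mem_of_blk hG hneg
    have hsw : (sw : GL (ι ⊕ ι) F) ∈ sl (wr R) := ⟨sw_mem_wr, det_sw hev⟩
    obtain ⟨a1, a2, rfl⟩ := exists_dg_of_comm h2 (hc zz ⟨dg_mem_wr.2 ⟨one_mem _, hR1⟩, det_zz hev⟩)
    have h3 := hc sw hsw
    have h4 : dg a1 a2 * sw = dg a2 a1 * sw := by rw [h3, sw_dg]
    obtain ⟨rfl, -⟩ := dg_inj (mul_right_cancel h4)
    rw [dg_mul, ← dg_one] at haa
    rcases hG.cen a1 (dg_inj haa).1 (fun r hr => by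
      have h5 := hc (dg r 1) ⟨dg_mem_wr.2 ⟨hr.1, one_mem _⟩, by
        rw [det_dg, hr.2, Units.val_one, det_one, mul_one]⟩
      rw [dg_mul, dg_mul] at h5
      exact (dg_inj h5).1) with h5 | h5
    · left; rw [h5, dg_one]
    · right; rw [h5, ← neg_dg, dg_one]
  three := by
    obtain ⟨r, hr, hr1, hr2⟩ := hG.three
    refine ⟨dg r 1, ⟨dg_mem_wr.2 ⟨hr.1, one_mem _⟩, by
      rw [det_dg, hr.2, Units.val_one, det_one, mul_one]⟩, ?_, ?_⟩
    · intro h
      rw [← dg_one] at h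
      exact hr1 (dg_inj h).1
    · intro h
      rw [← dg_one, dg_mul] at h
      exact hr2 (dg_inj h).1

/-- **`T = (R ≀ 2) ∩ SL` is its own normaliser in `L ∩ SL`**, if the degree is a power of 2. -/
theorem selfNorm [Finite F] [Nonempty ι] {𝓕 : Fam F} {R : Subgroup (GL ι F)} (h2 : (2 : F) ≠ 0)
    (hev : Even (Fintype.card ι)) (hG : Good 𝓕 R) (hneg : (-1 : GL ι F) ∈ 𝓕.L ι) {m : ℕ}
    (hm : Fintype.card (ι ⊕ ι) = 2 ^ m) {x : GL (ι ⊕ ι) F}
    (hx : x ∈ sl (𝓕.L (ι ⊕ ι))) (hxT : ∀ t ∈ sl (wr R), x * t * x⁻¹ ∈ sl (wr R)) :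
    x ∈ sl (wr R) := by
  obtain ⟨c, hc⟩ := norm_sl h2 hev hG hneg hx.1 hxT
  have hG' := hG.step h2 hev hneg
  have hcL : sc (ι ⊕ ι) c ∈ 𝓕.L (ι ⊕ ι) := by
    have h7 := mul_mem (hG'.le hc) (inv_mem hx.1)
    rwa [mul_inv_cancel_right] at h7
  -- `c` has 2-power order
  have h3 : ∃ k : ℕ, c ^ 2 ^ k = 1 := by
    obtain ⟨k, hk⟩ := hG'.two _ hc
    refine ⟨m + k, ?_⟩
    have h4 := congrArg (fun g : GL (ι ⊕ ι) F => (g : Matrix (ι ⊕ ι) (ι ⊕ ι) F).det) hk
    simp only [Units.val_pow_eq_pow_val, Units.val_mul, det_pow, det_mul, det_sc, hx.2, mul_one, Units.val_one,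
      det_one, hm] at h4
    apply Units.ext
    rw [Units.val_pow_eq_pow_val, Units.val_one, pow_add, pow_mul]
    exact h4
  have h5 := hG'.scal c hcL h3
  refine ⟨?_, hx.2⟩
  have h6 := mul_mem (inv_mem h5) hc
  rwa [inv_mul_cancel_left] at h6

end Cfsg.Agent.H95.Wreath
end

-- part: H95/BaseTwo
section
/-!
# The Sylow 2-subgroup `(F[J] ∩ L)₂ ⟨φ⟩` in degree two (helper95)

`J = [[0,-1],[1,0]]`, `φ = diag(1,-1)`. `R0` : the 2-elements of `L` commuting with `J`; `RR = R0 ⟨φ⟩`; `good` : it is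
`Good` if `L` contains `J`, `φ`, a nonzero multiple of `1 + J` and an element of `F[J]` of determinant `-1`.
-/

set_option autoImplicit false

namespace Cfsg.Agent.H95.BaseTwo

open Matrix Cfsg.Agent.H95.Wreath

variable {F : Type*} [Field F]

/-- `[[0,-1],[1,0]]` -/
def J : GL (Fin 2) F where
  val := !![0, -1; 1, 0]
  inv := !![0, 1; -1, 0]
  val_inv := by rw [Matrix.mul_fin_two, Matrix.one_fin_two]; simp
  inv_val := by rw [Matrix.mul_fin_two, Matrix.one_fin_two]; simp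

/-- `diag(1,-1)` -/
def ph : GL (Fin 2) F where
  val := !![1, 0; 0, -1]
  inv := !![1, 0; 0, -1]
  val_inv := by rw [Matrix.mul_fin_two, Matrix.one_fin_two]; simp
  inv_val := by rw [Matrix.mul_fin_two, Matrix.one_fin_two]; simp

theorem J_val : ((J : GL (Fin 2) F) : Matrix (Fin 2) (Fin 2) F) = !![0, -1; 1, 0] := rfl
theorem ph_val : ((ph : GL (Fin 2) F) : Matrix (Fin 2) (Fin 2) F) = !![1, 0; 0, -1] := rfl

theorem ph_mul : (ph : GL (Fin 2) F) * ph = 1 := by
  apply Units.ext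
  rw [Units.val_mul, ph_val, Matrix.mul_fin_two, Units.val_one, Matrix.one_fin_two]; simp

theorem ph_inv : (ph : GL (Fin 2) F)⁻¹ = ph := by rw [inv_eq_iff_mul_eq_one, ph_mul]

theorem J_mul : (J : GL (Fin 2) F) * J = -1 := by
  apply Units.ext
  rw [Units.val_mul, J_val, Matrix.mul_fin_two, Units.val_neg, Units.val_one, Matrix.one_fin_two]
  simp

theorem ph_J : (ph : GL (Fin 2) F) * J = -(J : GL (Fin 2) F) * ph := by
  apply Units.ext
  rw [Units.val_mul, Units.val_mul, Units.val_neg, J_val, ph_val, Matrix.mul_fin_two, Matrix.neg_mul,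
    Matrix.mul_fin_two]
  simp

theorem det_J : ((J : GL (Fin 2) F) : Matrix (Fin 2) (Fin 2) F).det = 1 := by
  rw [J_val, Matrix.det_fin_two_of]; ring

theorem det_ph : ((ph : GL (Fin 2) F) : Matrix (Fin 2) (Fin 2) F).det = -1 := by
  rw [ph_val, Matrix.det_fin_two_of]; ring

/-- commuting with `J` -/
theorem comm_J {g : GL (Fin 2) F} (hg : g * J = J * g) :
    ∃ x y : F, (g : Matrix (Fin 2) (Fin 2) F) = !![x, -y; y, x] := by
  have h1 := congrArg Units.val hg
  rw [Units.val_mul, Units.val_mul, J_val, Matrix.eta_fin_two (g : Matrix (Fin 2) (Fin 2) F), Matrix.mul_fin_two,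
    Matrix.mul_fin_two] at h1
  have h00 := congrFun (congrFun h1 0) 0
  have h01 := congrFun (congrFun h1 0) 1
  simp at h00 h01
  refine ⟨g 0 0, g 1 0, ?_⟩
  ext i j
  fin_cases i <;> fin_cases j
  · rfl
  · exact h00
  · rfl
  · exact h01.symm

theorem comm_J_of {g : GL (Fin 2) F} {x y : F} (h : (g : Matrix (Fin 2) (Fin 2) F) = !![x, -y; y, x]) :
    g * J = J * g := by
  apply Units.ext
  rw [Units.val_mul, Units.val_mul, J_val, h, Matrix.mul_fin_two, Matrix.mul_fin_two]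
  simp

theorem comm_A {g k : GL (Fin 2) F} (hg : g * J = J * g) (hk : k * J = J * k) : g * k = k * g := by
  obtain ⟨x, y, h1⟩ := comm_J hg
  obtain ⟨z, w, h2⟩ := comm_J hk
  apply Units.ext
  rw [Units.val_mul, Units.val_mul, h1, h2, Matrix.mul_fin_two, Matrix.mul_fin_two]
  ext i j
  fin_cases i <;> fin_cases j <;> simp <;> ring

/-- conjugation by `φ` -/
theorem ph_conj {g : GL (Fin 2) F} {x y : F} (h : (g : Matrix (Fin 2) (Fin 2) F) = !![x, -y; y, x]) :
    ((ph * g * ph : GL (Fin 2) F) : Matrix (Fin 2) (Fin 2) F) = !![x, y; -y, x] := by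
  rw [Units.val_mul, Units.val_mul, ph_val, h, Matrix.mul_fin_two, Matrix.mul_fin_two]
  simp

/-- the 2-elements of `L` commuting with `J` -/
def R0 (L : Subgroup (GL (Fin 2) F)) : Subgroup (GL (Fin 2) F) where
  carrier := {g | g ∈ L ∧ g * J = J * g ∧ ∃ k : ℕ, g ^ 2 ^ k = 1}
  mul_mem' := by
    rintro a b ⟨ha, haJ, k, hk⟩ ⟨hb, hbJ, l, hl⟩
    refine ⟨mul_mem ha hb, ?_, k + l, ?_⟩
    · rw [mul_assoc, hbJ, ← mul_assoc, haJ, mul_assoc]
    · have : Commute a b := comm_A haJ hbJ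
      rw [this.mul_pow, pow_add, pow_mul, hk, one_pow, one_mul, mul_comm, pow_mul, hl, one_pow]
  one_mem' := ⟨one_mem _, by rw [one_mul, mul_one], 0, one_pow _⟩
  inv_mem' := by
    rintro a ⟨ha, haJ, k, hk⟩
    refine ⟨inv_mem ha, ?_, k, by rw [inv_pow, hk, inv_one]⟩
    calc a⁻¹ * J = a⁻¹ * (J * a) * a⁻¹ := by group
      _ = a⁻¹ * (a * J) * a⁻¹ := by rw [haJ]
      _ = J * a⁻¹ := by group

theorem mem_R0 {L : Subgroup (GL (Fin 2) F)} {g : GL (Fin 2) F} :
    g ∈ R0 L ↔ g ∈ L ∧ g * J = J * g ∧ ∃ k : ℕ, g ^ 2 ^ k = 1 := Iff.rfl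

theorem ph_comm {g : GL (Fin 2) F} (hg : g * J = J * g) : (ph * g * ph) * J = J * (ph * g * ph) := by
  obtain ⟨x, y, h⟩ := comm_J hg
  refine comm_J_of (x := x) (y := -y) ?_
  rw [ph_conj h, neg_neg]

theorem ph_pow (g : GL (Fin 2) F) (n : ℕ) : (ph * g * ph) ^ n = ph * g ^ n * ph := by
  induction n with
  | zero => rw [pow_zero, pow_zero, mul_one, ph_mul]
  | succ n ih =>
    rw [pow_succ, ih, pow_succ]
    calc ph * g ^ n * ph * (ph * g * ph) = ph * g ^ n * (ph * ph) * g * ph := by simp only [mul_assoc]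
      _ = ph * (g ^ n * g) * ph := by rw [ph_mul, mul_one]; simp only [mul_assoc]

theorem ph_R0 {L : Subgroup (GL (Fin 2) F)} (hph : ph ∈ L) {g : GL (Fin 2) F} (hg : g ∈ R0 L) :
    ph * g * ph ∈ R0 L := by
  obtain ⟨h1, h2, k, hk⟩ := hg
  exact ⟨mul_mem (mul_mem hph h1) hph, ph_comm h2, k, by rw [ph_pow, hk, mul_one, ph_mul]⟩

/-- `R0 ⟨φ⟩` -/
def RR (L : Subgroup (GL (Fin 2) F)) (hph : ph ∈ L) : Subgroup (GL (Fin 2) F) where
  carrier := {g | g ∈ R0 L ∨ ∃ a ∈ R0 L, g = a * ph}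
  mul_mem' := by
    rintro g k (hg | ⟨a, ha, rfl⟩) (hk | ⟨b, hb, rfl⟩)
    · exact Or.inl (mul_mem hg hk)
    · exact Or.inr ⟨g * b, mul_mem hg hb, (mul_assoc _ _ _).symm⟩
    · refine Or.inr ⟨a * (ph * k * ph), mul_mem ha (ph_R0 hph hk), ?_⟩
      calc a * ph * k = a * (ph * k * (ph * ph)) := by rw [ph_mul, mul_one, mul_assoc]
        _ = a * (ph * k * ph) * ph := by simp only [mul_assoc]
    · refine Or.inl ?_
      have e : a * ph * (b * ph) = a * (ph * b * ph) := by simp only [mul_assoc]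
      rw [e]
      exact mul_mem ha (ph_R0 hph hb)
  one_mem' := Or.inl (one_mem _)
  inv_mem' := by
    rintro g (hg | ⟨a, ha, rfl⟩)
    · exact Or.inl (inv_mem hg)
    · refine Or.inr ⟨ph * a⁻¹ * ph, ph_R0 hph (inv_mem ha), ?_⟩
      rw [_root_.mul_inv_rev, ph_inv, mul_assoc (ph * a⁻¹), ph_mul, mul_one]

theorem ph_mem_RR {L : Subgroup (GL (Fin 2) F)} {hph : ph ∈ L} : ph ∈ RR L hph :=
  Or.inr ⟨1, one_mem _, (one_mul _).symm⟩

/-- the 2-part and the odd part of an element -/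
theorem exists_parts {G : Type*} [Group G] [Finite G] (x : G) :
    ∃ e : ℕ, ∃ m : ℕ, Odd m ∧ (x ^ e) ^ m = 1 ∧ ∃ k : ℕ, (x * (x ^ e)⁻¹) ^ 2 ^ k = 1 := by
  obtain ⟨k, m, hm, hkm⟩ := Nat.exists_eq_two_pow_mul_odd (n := orderOf x) (orderOf_pos x).ne'
  have hcop : Nat.Coprime (2 ^ k) m := Nat.Coprime.pow_left k (Nat.coprime_two_left.2 hm)
  obtain ⟨e, he1, he2⟩ := Nat.chineseRemainder hcop 0 1
  refine ⟨e, m, hm, ?_, k, ?_⟩
  · rw [← pow_mul, ← orderOf_dvd_iff_pow_eq_one, hkm]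
    exact mul_dvd_mul_right ((Nat.modEq_zero_iff_dvd).1 he1) m
  · have hc : Commute x (x ^ e)⁻¹ := (Commute.refl x).pow_right e |>.inv_right
    rw [hc.mul_pow, inv_pow, mul_inv_eq_one, ← pow_mul, pow_eq_pow_iff_modEq, hkm]
    have h3 : 1 ≡ e [MOD m] := he2.symm
    have h4 := h3.mul_left' (2 ^ k)
    rw [mul_one, mul_comm (2 ^ k) e] at h4
    exact h4

theorem odd_two_pow {G : Type*} [Group G] {t : G} {m k : ℕ} (hm : Odd m) (h1 : t ^ m = 1)
    (h2 : t ^ 2 ^ k = 1) : t = 1 := by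
  rw [← orderOf_eq_one_iff]
  have h3 := orderOf_dvd_of_pow_eq_one h1
  have h4 := orderOf_dvd_of_pow_eq_one h2
  exact Nat.eq_one_of_dvd_coprimes (Nat.Coprime.pow_right k (Nat.coprime_two_right.2 hm)) h3 h4

/-- an odd power of an element which is a 2-element -/
theorem exists_odd_pow {G : Type*} [Group G] [Finite G] (x : G) : ∃ m : ℕ, Odd m ∧ ∃ k : ℕ, (x ^ m) ^ 2 ^ k = 1 := by
  obtain ⟨k, m, hm, hkm⟩ := Nat.exists_eq_two_pow_mul_odd (n := orderOf x) (orderOf_pos x).ne'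
  refine ⟨m, hm, k, ?_⟩
  rw [← pow_mul, mul_comm, ← hkm, pow_orderOf_eq_one]

theorem pow_comm_J {g : GL (Fin 2) F} (hg : g * J = J * g) (n : ℕ) : g ^ n * J = J * g ^ n := by
  have : Commute g J := hg
  exact this.pow_left n

/-- an element `β + γ J` of `R0` with `β, γ ≠ 0` -/
theorem exists_b [Finite F] {L : Subgroup (GL (Fin 2) F)} (h2 : (2 : F) ≠ 0)
    (h1 : ∃ g ∈ L, ∃ s : F, s ≠ 0 ∧ (g : Matrix (Fin 2) (Fin 2) F) = !![s, -s; s, s]) :
    ∃ b ∈ R0 L, ∃ x y : F, x ≠ 0 ∧ y ≠ 0 ∧ (b : Matrix (Fin 2) (Fin 2) F) = !![x, -y; y, x] := by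
  obtain ⟨g, hg, s, hs, hgs⟩ := h1
  have hgJ := comm_J_of hgs
  obtain ⟨m, hm, k, hk⟩ := exists_odd_pow g
  refine ⟨g ^ m, ⟨pow_mem hg m, pow_comm_J hgJ m, k, hk⟩, ?_⟩
  -- odd powers
  have key : ∀ n : ℕ, ∃ x y : F, x ≠ 0 ∧ (y = x ∨ y = -x) ∧
      ((g ^ (2 * n + 1) : GL (Fin 2) F) : Matrix (Fin 2) (Fin 2) F) = !![x, -y; y, x] := by
    intro n
    induction n with
    | zero => exact ⟨s, s, hs, Or.inl rfl, by rw [mul_zero, zero_add, pow_one, hgs]⟩
    | succ n ih =>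
      obtain ⟨x, y, hx, hy, h⟩ := ih
      refine ⟨-(2 * s ^ 2 * y), 2 * s ^ 2 * x, ?_, ?_, ?_⟩
      · have hy0 : y ≠ 0 := by
          rcases hy with rfl | rfl
          · exact hx
          · exact neg_ne_zero.2 hx
        exact neg_ne_zero.2 (mul_ne_zero (mul_ne_zero h2 (pow_ne_zero 2 hs)) hy0)
      · rcases hy with rfl | rfl
        · right; ring
        · left; ring
      · rw [show 2 * (n + 1) + 1 = (2 * n + 1) + 1 + 1 by ring, pow_succ, pow_succ, Units.val_mul, Units.val_mul, h,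
          hgs, Matrix.mul_fin_two, Matrix.mul_fin_two]
        ext i j
        fin_cases i <;> fin_cases j <;> simp <;> ring
  obtain ⟨n, rfl⟩ := hm
  obtain ⟨x, y, hx, hy, h⟩ := key n
  refine ⟨x, y, hx, ?_, h⟩
  rcases hy with rfl | rfl
  · exact hx
  · exact neg_ne_zero.2 hx

/-- an element of `R0` of determinant `-1` -/
theorem exists_s [Finite F] {L : Subgroup (GL (Fin 2) F)}
    (h1 : ∃ g ∈ L, ∃ x y : F, x ^ 2 + y ^ 2 = -1 ∧ (g : Matrix (Fin 2) (Fin 2) F) = !![x, -y; y, x]) :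
    ∃ b ∈ R0 L, (b : Matrix (Fin 2) (Fin 2) F).det = -1 := by
  obtain ⟨g, hg, x, y, hxy, hgs⟩ := h1
  have hgJ := comm_J_of hgs
  obtain ⟨m, hm, k, hk⟩ := exists_odd_pow g
  refine ⟨g ^ m, ⟨pow_mem hg m, pow_comm_J hgJ m, k, hk⟩, ?_⟩
  have hd : (g : Matrix (Fin 2) (Fin 2) F).det = -1 := by
    rw [hgs, Matrix.det_fin_two_of, ← hxy]; ring
  rw [Units.val_pow_eq_pow_val, det_pow, hd, hm.neg_one_pow]

theorem ne_neg (h2 : (2 : F) ≠ 0) {g : GL (Fin 2) F} : g ≠ -g := by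
  intro h
  have h1 := congrArg (fun k : GL (Fin 2) F => (k : Matrix (Fin 2) (Fin 2) F)) h
  simp only [Units.val_neg] at h1
  have hd : (g : Matrix (Fin 2) (Fin 2) F).det ≠ 0 := det_ne
  have h0 : (g : Matrix (Fin 2) (Fin 2) F) = 0 := by
    ext i j
    have h3 := congrFun (congrFun h1 i) j
    rw [Matrix.neg_apply] at h3
    have h4 : 2 * (g : Matrix (Fin 2) (Fin 2) F) i j = 0 := by linear_combination h3
    rcases mul_eq_zero.1 h4 with h5 | h5
    · exact absurd h5 h2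
    · rw [h5]; rfl
  rw [h0] at hd
  simp at hd

/-- elements commuting with `J` and `φ` are scalar -/
theorem eq_sc (h2 : (2 : F) ≠ 0) {g : GL (Fin 2) F} (hJ : g * J = J * g) (hp : ph * g * ph = g) :
    ∃ c : Fˣ, g = sc (Fin 2) c := by
  obtain ⟨x, y, h⟩ := comm_J hJ
  have h1 := ph_conj h
  rw [hp, h] at h1
  have h3 := congrFun (congrFun h1 1) 0
  simp at h3
  have hy : y = 0 := by
    have h4 : 2 * y = 0 := by linear_combination h3
    rcases mul_eq_zero.1 h4 with h5 | h5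
    · exact absurd h5 h2
    · exact h5
  subst hy
  have hd : (g : Matrix (Fin 2) (Fin 2) F).det ≠ 0 := det_ne
  rw [h, Matrix.det_fin_two_of] at hd
  have hx : x ≠ 0 := by
    rintro rfl
    apply hd; ring
  refine ⟨Units.mk0 x hx, ?_⟩
  apply Units.ext
  rw [sc_val, h, Algebra.algebraMap_eq_smul_one, Matrix.one_fin_two, Matrix.smul_of]
  ext i j
  fin_cases i <;> fin_cases j <;> simp

theorem good [Finite F] (𝓕 : Fam F) (h2 : (2 : F) ≠ 0) (hph : ph ∈ 𝓕.L (Fin 2)) (hJ : J ∈ 𝓕.L (Fin 2))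
    (h1 : ∃ g ∈ 𝓕.L (Fin 2), ∃ s : F, s ≠ 0 ∧ (g : Matrix (Fin 2) (Fin 2) F) = !![s, -s; s, s])
    (h3 : ∃ g ∈ 𝓕.L (Fin 2), ∃ x y : F, x ^ 2 + y ^ 2 = -1 ∧ (g : Matrix (Fin 2) (Fin 2) F) = !![x, -y; y, x]) :
    Good 𝓕 (RR (𝓕.L (Fin 2)) hph) := by
  set L := 𝓕.L (Fin 2) with hL
  have hJR0 : J ∈ R0 L := by
    refine ⟨hJ, rfl, 2, ?_⟩
    rw [show (2 : ℕ) ^ 2 = 2 * 2 by norm_num, pow_mul, pow_two J, J_mul, neg_one_sq]
  have hJR : J ∈ RR L hph := Or.inl hJR0
  obtain ⟨b, hb, bx, by', hbx, hby, hbm⟩ := exists_b h2 h1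
  obtain ⟨s, hs, hsd⟩ := exists_s h3
  have hfin : Finite (GL (Fin 2) F) := inferInstance
  -- elements of `R` conjugate `J` to `± J`
  have hcl : ∀ r ∈ RR L hph, r * J * r⁻¹ = J ∨ r * J * r⁻¹ = -(J : GL (Fin 2) F) := by
    rintro r (hr | ⟨a, ha, rfl⟩)
    · left
      rw [hr.2.1, mul_inv_cancel_right]
    · right
      calc a * ph * J * (a * ph)⁻¹ = a * (ph * J) * ph⁻¹ * a⁻¹ := by group
        _ = -(a * J * a⁻¹) := by
          rw [ph_J, neg_mul, mul_neg, neg_mul, neg_mul]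
          congr 1
          group
        _ = -(J : GL (Fin 2) F) := by rw [ha.2.1, mul_inv_cancel_right]
  -- the core
  have core : ∀ x ∈ L, (∀ r ∈ RR L hph, x * r * x⁻¹ ∈ RR L hph) → x * J = J * x →
      ∃ c : Fˣ, sc (Fin 2) c * x ∈ RR L hph := by
    intro x hx hxR hxJ
    have hxi : x⁻¹ * J = J * x⁻¹ := by
      calc x⁻¹ * J = x⁻¹ * (J * x) * x⁻¹ := by group
        _ = x⁻¹ * (x * J) * x⁻¹ := by rw [hxJ]
        _ = J * x⁻¹ := by group
    -- `t = x x^{-φ}` is a 2-element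
    set t := x * (ph * x⁻¹ * ph) with ht
    have htR : t * ph ∈ RR L hph := by
      have h4 := hxR ph ph_mem_RR
      have e : t * ph = x * ph * x⁻¹ := by
        rw [ht]
        calc x * (ph * x⁻¹ * ph) * ph = x * ph * x⁻¹ * (ph * ph) := by group
          _ = x * ph * x⁻¹ := by rw [ph_mul, mul_one]
      rwa [e]
    have htJ : t * J = J * t := by
      rw [ht, mul_assoc, ph_comm hxi, ← mul_assoc, hxJ, mul_assoc]
    have ht0 : t ∈ R0 L := by
      rcases htR with h4 | ⟨a, ha, h4⟩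
      · exfalso
        -- `φ` would commute with `J`
        have h5 : t⁻¹ * J = J * t⁻¹ := by
          calc t⁻¹ * J = t⁻¹ * (J * t) * t⁻¹ := by group
            _ = t⁻¹ * (t * J) * t⁻¹ := by rw [htJ]
            _ = J * t⁻¹ := by group
        have h6 : (ph : GL (Fin 2) F) * J = J * ph := by
          calc ph * J = t⁻¹ * ((t * ph) * J) := by group
            _ = t⁻¹ * (J * (t * ph)) := by rw [h4.2.1]
            _ = (t⁻¹ * J) * (t * ph) := by group
            _ = J * ph := by rw [h5]; group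
        have h7 : -((J : GL (Fin 2) F) * ph) = J * ph := by rw [← neg_mul, ← ph_J, h6]
        exact ne_neg h2 h7.symm
      · rw [mul_right_cancel h4]; exact ha
    obtain ⟨k, hk⟩ := ht0.2.2
    obtain ⟨e, m, hm, hem, l, hl⟩ := exists_parts x
    -- the odd part of `x` is scalar
    have hvJ : x ^ e * J = J * x ^ e := pow_comm_J hxJ e
    have hviJ : (x ^ e)⁻¹ * J = J * (x ^ e)⁻¹ := by
      calc (x ^ e)⁻¹ * J = (x ^ e)⁻¹ * (J * x ^ e) * (x ^ e)⁻¹ := by group
        _ = (x ^ e)⁻¹ * (x ^ e * J) * (x ^ e)⁻¹ := by rw [hvJ]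
        _ = J * (x ^ e)⁻¹ := by group
    have hte : x ^ e * (ph * (x ^ e)⁻¹ * ph) = t ^ e := by
      have hc : Commute x (ph * x⁻¹ * ph) := comm_A hxJ (ph_comm hxi)
      rw [ht, hc.mul_pow, ph_pow, inv_pow]
    have hone : x ^ e * (ph * (x ^ e)⁻¹ * ph) = 1 := by
      refine odd_two_pow (m := m) (k := k) hm ?_ ?_
      · have hc : Commute (x ^ e) (ph * (x ^ e)⁻¹ * ph) := comm_A hvJ (ph_comm hviJ)
        rw [hc.mul_pow, hem, one_mul, ph_pow, inv_pow, hem, inv_one, mul_one, ph_mul]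
      · rw [hte, ← pow_mul, mul_comm, pow_mul, hk, one_pow]
    have hfix : ph * x ^ e * ph = x ^ e := by
      have h5 := eq_inv_of_mul_eq_one_left hone
      rw [_root_.mul_inv_rev, _root_.mul_inv_rev, ph_inv, inv_inv, ← mul_assoc] at h5
      exact h5.symm
    obtain ⟨c, hc⟩ := eq_sc h2 hvJ hfix
    refine ⟨c⁻¹, Or.inl ?_⟩
    have e1 : sc (Fin 2) c⁻¹ * x = x * (x ^ e)⁻¹ := by
      rw [sc_inv, ← hc]
      exact ((Commute.refl x).pow_left e).inv_left.eq
    rw [e1]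
    refine ⟨mul_mem hx (inv_mem (pow_mem hx e)), ?_, l, hl⟩
    rw [mul_assoc, hviJ, ← mul_assoc, hxJ, mul_assoc]
  refine ⟨?_, ?_, ?_, ?_, ?_, ?_⟩
  · rintro g (hg | ⟨a, ha, rfl⟩)
    · exact hg.1
    · exact mul_mem ha.1 hph
  · rintro g (hg | ⟨a, ha, rfl⟩)
    · exact hg.2.2
    · obtain ⟨k, hk⟩ := (mul_mem ha (ph_R0 hph ha)).2.2
      refine ⟨k + 1, ?_⟩
      have e : (a * ph) ^ 2 = a * (ph * a * ph) := by rw [pow_two]; simp only [mul_assoc]
      rw [pow_succ', pow_mul, e, hk]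
  · intro c hc hk
    refine Or.inl ⟨hc, sc_comm c J, ?_⟩
    obtain ⟨k, hk⟩ := hk
    exact ⟨k, by rw [← sc_pow, hk, sc_one]⟩
  · intro x hx hxR
    have hxi := conj_inv_mem (T := RR L hph) (x := x) hxR
    -- `x J x⁻¹ = ± J`
    have hpm : x * J * x⁻¹ = J ∨ x * J * x⁻¹ = -(J : GL (Fin 2) F) := by
      have hb' := hcl _ (hxi b (Or.inl hb))
      have hb'' : b * (x * J * x⁻¹) * b⁻¹ = x * J * x⁻¹ ∨ b * (x * J * x⁻¹) * b⁻¹ = -(x * J * x⁻¹) := by
        rcases hb' with h4 | h4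
        · left
          calc b * (x * J * x⁻¹) * b⁻¹ = x * ((x⁻¹ * b * x) * J * (x⁻¹ * b * x)⁻¹) * x⁻¹ := by group
            _ = x * J * x⁻¹ := by rw [h4]
        · right
          calc b * (x * J * x⁻¹) * b⁻¹ = x * ((x⁻¹ * b * x) * J * (x⁻¹ * b * x)⁻¹) * x⁻¹ := by group
            _ = -(x * J * x⁻¹) := by rw [h4, mul_neg, neg_mul]
      have hsq : (x * J * x⁻¹) * (x * J * x⁻¹) = -1 := by
        calc (x * J * x⁻¹) * (x * J * x⁻¹) = x * (J * J) * x⁻¹ := by group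
          _ = -1 := by rw [J_mul, mul_neg, mul_one, neg_mul, mul_inv_cancel]
      rcases hxR J hJR with h4 | ⟨a, ha, h4⟩
      · -- in `R0`
        obtain ⟨u, v, huv⟩ := comm_J h4.2.1
        have h5 := congrArg (fun k : GL (Fin 2) F => (k : Matrix (Fin 2) (Fin 2) F)) hsq
        simp only [Units.val_mul (x * J * x⁻¹) (x * J * x⁻¹)] at h5
        rw [huv, Matrix.mul_fin_two, Units.val_neg, Units.val_one, Matrix.one_fin_two] at h5
        have h00 := congrFun (congrFun h5 0) 0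
        have h10 := congrFun (congrFun h5 1) 0
        simp at h00 h10
        have huv0 : 2 * (u * v) = 0 := by linear_combination h10
        rcases mul_eq_zero.1 huv0 with h6 | h6
        · exact absurd h6 h2
        rcases mul_eq_zero.1 h6 with rfl | rfl
        · have h7 : (v - 1) * (v + 1) = 0 := by linear_combination -h00
          rcases mul_eq_zero.1 h7 with h8 | h8
          · left
            apply Units.ext
            rw [huv, sub_eq_zero.1 h8, J_val]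
          · right
            apply Units.ext
            rw [huv, eq_neg_of_add_eq_zero_left h8, Units.val_neg, J_val]
            simp
        · exfalso
          have hu : u ≠ 0 := by
            rintro rfl
            simp at h00
          have h7 : x * J * x⁻¹ = sc (Fin 2) (Units.mk0 u hu) := by
            apply Units.ext
            rw [huv, sc_val, Algebra.algebraMap_eq_smul_one, Matrix.one_fin_two, Matrix.smul_of]
            ext i j
            fin_cases i <;> fin_cases j <;> simp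
          have h8 : (J : GL (Fin 2) F) = sc (Fin 2) (Units.mk0 u hu) := by
            calc J = x⁻¹ * (x * J * x⁻¹) * x := by group
              _ = x⁻¹ * sc (Fin 2) (Units.mk0 u hu) * x := by rw [h7]
              _ = sc (Fin 2) (Units.mk0 u hu) := by rw [← sc_comm, inv_mul_cancel_right]
          have h9 := congrFun (congrFun (congrArg (fun k : GL (Fin 2) F => (k : Matrix (Fin 2) (Fin 2) F)) h8) 1) 0
          rw [J_val, sc_val, Algebra.algebraMap_eq_smul_one] at h9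
          simp at h9
      · exfalso
        have hba : b * a = a * b := comm_A hb.2.1 ha.2.1
        have e1 : b * (a * ph) * b⁻¹ = a * (b * (ph * b⁻¹ * ph)) * ph := by
          calc b * (a * ph) * b⁻¹ = (b * a) * ph * b⁻¹ := by simp only [mul_assoc]
            _ = a * b * ph * b⁻¹ * (ph * ph) := by rw [hba, ph_mul, mul_one]
            _ = a * (b * (ph * b⁻¹ * ph)) * ph := by simp only [mul_assoc]
        have e2 : (ph * b⁻¹ * ph)⁻¹ = ph * b * ph := by
          rw [_root_.mul_inv_rev, _root_.mul_inv_rev, ph_inv, inv_inv, ← mul_assoc]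
        rw [h4, e1] at hb''
        have hm : (b : Matrix (Fin 2) (Fin 2) F) = ((ph * b * ph : GL (Fin 2) F) : Matrix (Fin 2) (Fin 2) F) ∨
            (b : Matrix (Fin 2) (Fin 2) F) = -((ph * b * ph : GL (Fin 2) F) : Matrix (Fin 2) (Fin 2) F) := by
          rcases hb'' with h5 | h5
          · left
            have h6 : b * (ph * b⁻¹ * ph) = 1 := mul_eq_left.1 (mul_right_cancel h5)
            have h7 := eq_inv_of_mul_eq_one_left h6
            rw [e2] at h7
            exact congrArg Units.val h7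
          · right
            have h6 : b * (ph * b⁻¹ * ph) = -1 := by
              have h8 : a * (b * (ph * b⁻¹ * ph)) * ph = (a * -1) * ph := by
                rw [h5, mul_neg, mul_one, neg_mul]
              exact mul_left_cancel (mul_right_cancel h8)
            have h7 : -b * (ph * b⁻¹ * ph) = 1 := by rw [neg_mul, h6, neg_neg]
            have h8 := eq_inv_of_mul_eq_one_left h7
            rw [e2] at h8
            rw [← h8, Units.val_neg, neg_neg]
        rw [ph_conj hbm, hbm] at hm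
        rcases hm with h5 | h5
        · have h6 := congrFun (congrFun h5 1) 0
          simp at h6
          have h7 : 2 * by' = 0 := by linear_combination h6
          rcases mul_eq_zero.1 h7 with h8 | h8
          · exact h2 h8
          · exact hby h8
        · have h6 := congrFun (congrFun h5 0) 0
          simp at h6
          have h7 : 2 * bx = 0 := by linear_combination h6
          rcases mul_eq_zero.1 h7 with h8 | h8
          · exact h2 h8
          · exact hbx h8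
    rcases hpm with h4 | h4
    · exact core x hx hxR (by
        calc x * J = (x * J * x⁻¹) * x := by group
          _ = J * x := by rw [h4])
    · have hpx : ph * x ∈ L := mul_mem hph hx
      obtain ⟨c, hc⟩ := core (ph * x) hpx (by
          intro r hr
          have h5 := mul_mem (mul_mem (ph_mem_RR (hph := hph)) (hxR r hr)) (inv_mem (ph_mem_RR (hph := hph)))
          have e : ph * (x * r * x⁻¹) * ph⁻¹ = ph * x * r * (ph * x)⁻¹ := by group
          rwa [e] at h5) (by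
          calc ph * x * J = ph * (x * J * x⁻¹) * x := by group
            _ = J * (ph * x) := by
              rw [h4, mul_neg, ph_J, neg_mul, neg_mul, neg_mul, neg_neg, mul_assoc])
      refine ⟨c, ?_⟩
      have h5 := mul_mem (inv_mem (ph_mem_RR (hph := hph))) hc
      have e : ph⁻¹ * (sc (Fin 2) c * (ph * x)) = sc (Fin 2) c * x := by
        rw [← mul_assoc, ← mul_assoc, ← sc_comm, mul_assoc (sc (Fin 2) c), inv_mul_cancel, mul_one]
      rwa [e] at h5
  · intro a haa hc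
    have haJ : a * J = J * a := hc J ⟨hJR, det_J⟩
    obtain ⟨u, v, huv⟩ := comm_J haJ
    have hsp : s * ph ∈ sl (RR L hph) :=
      ⟨Or.inr ⟨s, hs, rfl⟩, by rw [Units.val_mul, det_mul, hsd, det_ph, neg_one_mul, neg_neg]⟩
    have h5 := hc _ hsp
    have h6 : a * s = s * a := comm_A haJ hs.2.1
    have h7 : a * ph = ph * a := by
      have h8 : s * (a * ph) = s * (ph * a) := by
        rw [← mul_assoc, ← h6, mul_assoc, h5, mul_assoc]
      exact mul_left_cancel h8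
    have h8 : ph * a * ph = a := by rw [← h7, mul_assoc, ph_mul, mul_one]
    have h9 := ph_conj huv
    rw [h8, huv] at h9
    have h10 := congrFun (congrFun h9 1) 0
    simp at h10
    have hv : v = 0 := by
      have h11 : 2 * v = 0 := by linear_combination h10
      rcases mul_eq_zero.1 h11 with h12 | h12
      · exact absurd h12 h2
      · exact h12
    subst hv
    have h11 := congrArg (fun k : GL (Fin 2) F => (k : Matrix (Fin 2) (Fin 2) F)) haa
    simp only [Units.val_mul a a] at h11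
    rw [huv, Matrix.mul_fin_two, Units.val_one, Matrix.one_fin_two] at h11
    have h12 := congrFun (congrFun h11 0) 0
    simp at h12
    have h13 : (u - 1) * (u + 1) = 0 := by linear_combination h12
    rcases mul_eq_zero.1 h13 with h14 | h14
    · left
      apply Units.ext
      rw [huv, sub_eq_zero.1 h14, Units.val_one, Matrix.one_fin_two]
      simp
    · right
      apply Units.ext
      rw [huv, eq_neg_of_add_eq_zero_left h14, Units.val_neg, Units.val_one, Matrix.one_fin_two]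
      simp
  · refine ⟨J, ⟨hJR, det_J⟩, ?_, ?_⟩
    · intro h
      have h5 := congrFun (congrFun (congrArg (fun k : GL (Fin 2) F => (k : Matrix (Fin 2) (Fin 2) F)) h) 1) 0
      rw [J_val, Units.val_one] at h5
      simp at h5
    · rw [J_mul]
      intro h
      exact ne_neg h2 h.symm

end Cfsg.Agent.H95.BaseTwo
end

-- part: H95/OddNorm
section
/-!
# Self-normalising Sylow 2-subgroups of `PSL_{2^w}(q)` and `PSU_{2^w}(q)`, `w ≥ 2`, `q` odd (helper95)
-/

set_option autoImplicit false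

namespace Cfsg.Agent.H95.OddNorm

open Matrix Cfsg.Agent.H95.Wreath Cfsg.Agent.LieClassical

variable {F : Type*} [Field F]

theorem exists_good [Finite F] (h2 : (2 : F) ≠ 0) (𝓕 : Fam F)
    (hneg : ∀ (ι : Type) [Fintype ι] [DecidableEq ι], (-1 : GL ι F) ∈ 𝓕.L ι)
    {R : Subgroup (GL (Fin 2) F)} (hR : Good 𝓕 R) (k : ℕ) :
    ∃ (ι : Type) (_ : Fintype ι) (_ : DecidableEq ι) (_ : Nonempty ι) (R : Subgroup (GL ι F)),
      Fintype.card ι = 2 ^ (k + 1) ∧ Good 𝓕 R := by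
  induction k with
  | zero => exact ⟨Fin 2, inferInstance, inferInstance, inferInstance, R, by simp, hR⟩
  | succ k ih =>
    obtain ⟨ι, _, _, _, R, hc, hG⟩ := ih
    refine ⟨ι ⊕ ι, inferInstance, inferInstance, inferInstance, wr R, ?_, ?_⟩
    · rw [Fintype.card_sum, hc]; ring
    · exact hG.step h2 (by rw [hc, pow_succ]; exact even_two.mul_left _) (hneg ι)

/-- the embedding of `SL` into a reindexed `GL` -/
def emb {n κ : Type} [Fintype n] [DecidableEq n] [Fintype κ] [DecidableEq κ] (e : n ≃ κ) :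
    SpecialLinearGroup n F →* GL κ F :=
  (Units.mapEquiv (Matrix.reindexAlgEquiv F F e).toMulEquiv).toMonoidHom.comp SpecialLinearGroup.toGL

section

variable {n κ : Type} [Fintype n] [DecidableEq n] [Fintype κ] [DecidableEq κ] (e : n ≃ κ)

theorem emb_val (g : SpecialLinearGroup n F) : ((emb e g : GL κ F) : Matrix κ κ F) = reindex e e (g : Matrix n n F) :=
  rfl

theorem emb_inj : Function.Injective (emb (F := F) e) := by
  intro a b h
  have h1 := congrArg (fun g : GL κ F => (g : Matrix κ κ F)) h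
  simp only [emb_val] at h1
  exact Subtype.ext ((reindex e e).injective h1)

theorem mem_range_emb (g : GL κ F) : g ∈ (emb (F := F) e).range ↔ (g : Matrix κ κ F).det = 1 := by
  constructor
  · rintro ⟨h, rfl⟩
    rw [emb_val, det_reindex_self]
    exact h.2
  · intro h
    refine ⟨⟨(reindex e e).symm (g : Matrix κ κ F), ?_⟩, ?_⟩
    · rw [← det_reindex_self e, Equiv.apply_symm_apply, h]
    · apply Units.ext
      exact Equiv.apply_symm_apply (reindex e e) _

end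

/-- all matrices -/
def famGL : Fam F where
  L := fun ι _ _ => ⊤
  blk := by simp
  sw_mem := by simp

/-- unitary matrices -/
def famU (τ : F →+* F) : Fam F where
  L := fun ι _ _ =>
    { carrier := {g | (g : Matrix ι ι F)ᵀ * (g : Matrix ι ι F).map τ = 1}
      mul_mem' := by
        intro a b ha hb
        show ((a * b : GL ι F) : Matrix ι ι F)ᵀ * ((a * b : GL ι F) : Matrix ι ι F).map τ = 1
        rw [Units.val_mul, transpose_mul, Matrix.map_mul, Matrix.mul_assoc, ← Matrix.mul_assoc _ _ (Matrix.map _ τ),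
          show (a : Matrix ι ι F)ᵀ * (a : Matrix ι ι F).map τ = 1 from ha, Matrix.one_mul]
        exact hb
      one_mem' := by
        show ((1 : GL ι F) : Matrix ι ι F)ᵀ * ((1 : GL ι F) : Matrix ι ι F).map τ = 1
        rw [Units.val_one, transpose_one, Matrix.map_one τ (map_zero τ) (map_one τ), Matrix.one_mul]
      inv_mem' := by
        intro a ha
        show ((a⁻¹ : GL ι F) : Matrix ι ι F)ᵀ * ((a⁻¹ : GL ι F) : Matrix ι ι F).map τ = 1
        have ha' : (a : Matrix ι ι F)ᵀ * (a : Matrix ι ι F).map τ = 1 := ha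
        have h1 : (a : Matrix ι ι F) * ((a⁻¹ : GL ι F) : Matrix ι ι F) = 1 := by
          rw [← Units.val_mul, mul_inv_cancel]; rfl
        have h2 : ((a⁻¹ : GL ι F) : Matrix ι ι F)ᵀ * (a : Matrix ι ι F)ᵀ = 1 := by
          rw [← transpose_mul, h1, transpose_one]
        have h3 : (a : Matrix ι ι F).map τ * ((a⁻¹ : GL ι F) : Matrix ι ι F).map τ = 1 := by
          rw [← Matrix.map_mul, h1, Matrix.map_one τ (map_zero τ) (map_one τ)]
        calc ((a⁻¹ : GL ι F) : Matrix ι ι F)ᵀ * ((a⁻¹ : GL ι F) : Matrix ι ι F).map τ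
            = ((a⁻¹ : GL ι F) : Matrix ι ι F)ᵀ * ((a : Matrix ι ι F)ᵀ * (a : Matrix ι ι F).map τ) *
              ((a⁻¹ : GL ι F) : Matrix ι ι F).map τ := by rw [ha', Matrix.mul_one]
          _ = (((a⁻¹ : GL ι F) : Matrix ι ι F)ᵀ * (a : Matrix ι ι F)ᵀ) * ((a : Matrix ι ι F).map τ *
              ((a⁻¹ : GL ι F) : Matrix ι ι F).map τ) := by simp only [Matrix.mul_assoc]
          _ = 1 := by rw [h2, h3, Matrix.one_mul] }
  blk := by
    intro ι _ _ a b
    show ((dg a b : GL (ι ⊕ ι) F) : Matrix (ι ⊕ ι) (ι ⊕ ι) F)ᵀ *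
      ((dg a b : GL (ι ⊕ ι) F) : Matrix (ι ⊕ ι) (ι ⊕ ι) F).map τ = 1 ↔
      (a : Matrix ι ι F)ᵀ * (a : Matrix ι ι F).map τ = 1 ∧ (b : Matrix ι ι F)ᵀ * (b : Matrix ι ι F).map τ = 1
    rw [dg_val, fromBlocks_transpose, fromBlocks_map, fromBlocks_multiply, ← fromBlocks_one, fromBlocks_inj]
    simp
  sw_mem := by
    intro ι _ _
    show ((sw : GL (ι ⊕ ι) F) : Matrix (ι ⊕ ι) (ι ⊕ ι) F)ᵀ *
      ((sw : GL (ι ⊕ ι) F) : Matrix (ι ⊕ ι) (ι ⊕ ι) F).map τ = 1
    rw [sw_val, fromBlocks_transpose, fromBlocks_map, fromBlocks_multiply, ← fromBlocks_one, fromBlocks_inj]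
    simp

theorem mem_famU {τ : F →+* F} {ι : Type} [Fintype ι] [DecidableEq ι] {g : GL ι F} :
    g ∈ (famU τ).L ι ↔ (g : Matrix ι ι F)ᵀ * (g : Matrix ι ι F).map τ = 1 := Iff.rfl

theorem neg_one_mem_famU (τ : F →+* F) (ι : Type) [Fintype ι] [DecidableEq ι] : (-1 : GL ι F) ∈ (famU τ).L ι := by
  rw [mem_famU, Units.val_neg, Units.val_one, transpose_neg, transpose_one]
  have h1 : (-1 : Matrix ι ι F).map τ = -1 := by
    ext i j
    show τ (-(1 : Matrix ι ι F) i j) = -(1 : Matrix ι ι F) i j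
    rw [map_neg]
    by_cases hij : i = j
    · subst hij; rw [Matrix.one_apply_eq, map_one]
    · rw [Matrix.one_apply_ne hij, map_zero]
  rw [h1, neg_mul_neg, Matrix.one_mul]

theorem good_GL [Finite F] (h2 : (2 : F) ≠ 0) : ∃ R : Subgroup (GL (Fin 2) F), Good famGL R := by
  obtain ⟨p, hp⟩ := CharP.exists F
  have : Fact p.Prime := ⟨CharP.char_is_prime F p⟩
  obtain ⟨a, b, hab⟩ := CharP.sq_add_sq F p (-1)
  have hab' : (a : F) ^ 2 + (b : F) ^ 2 = -1 := by simpa using hab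
  have mkGL : ∀ x y : F, x ^ 2 + y ^ 2 ≠ 0 → ∃ g : GL (Fin 2) F, g = !![x, -y; y, x] := by
    intro x y h
    refine ⟨Matrix.GeneralLinearGroup.mkOfDetNeZero !![x, -y; y, x] ?_, rfl⟩
    rw [Matrix.det_fin_two_of]
    intro h3
    apply h
    linear_combination h3
  refine ⟨_, BaseTwo.good famGL h2 (Subgroup.mem_top _) (Subgroup.mem_top _) ?_ ?_⟩
  · obtain ⟨g, hg⟩ := mkGL 1 1 (by
      intro h; apply h2; linear_combination h)
    exact ⟨g, Subgroup.mem_top _, 1, one_ne_zero, hg⟩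
  · obtain ⟨g, hg⟩ := mkGL a b (by
      rw [hab']; exact neg_ne_zero.2 one_ne_zero)
    exact ⟨g, Subgroup.mem_top _, a, b, hab', hg⟩

theorem good_U [Fintype F] {q : ℕ} (hF : Fintype.card F = q ^ 2) (h2 : (2 : F) ≠ 0) :
    ∃ R : Subgroup (GL (Fin 2) F), Good (famU (GUOrder.frob hF)) R := by
  obtain ⟨τ, hτ⟩ : ∃ τ : F →+* F, τ = GUOrder.frob hF := ⟨_, rfl⟩
  have hττ : ∀ x, τ (τ x) = x := fun x => by rw [hτ]; exact GUOrder.frob_frob hF x
  have hτa : ∀ x, τ x = x ^ q := fun x => by rw [hτ]; rfl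
  rw [← hτ]
  -- a nontrivial element
  have hne : ∃ a : F, τ a ≠ a := by
    by_contra hcon
    push Not at hcon
    have hq2 := GUOrder.two_le hF
    -- all elements are roots of `X ^ q - X`
    have h1 : ∀ u : Fˣ, u ^ (q - 1) = 1 := by
      intro u
      apply Units.ext
      rw [Units.val_pow_eq_pow_val, Units.val_one]
      have h3 := hcon u
      rw [hτa] at h3
      have h4 : (u : F) ^ (q - 1) * u = 1 * u := by
        rw [← pow_succ, Nat.sub_add_cancel (by omega), h3, one_mul]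
      exact mul_right_cancel₀ u.ne_zero h4
    obtain ⟨g, hg⟩ := IsCyclic.exists_generator (α := Fˣ)
    have hord : orderOf g = (q + 1) * (q - 1) := by
      rw [← HermBasic.card_units_eq hF]; exact orderOf_eq_card_of_forall_mem_zpowers hg
    have h5 := orderOf_dvd_of_pow_eq_one (h1 g)
    rw [hord] at h5
    have h6 := Nat.le_of_dvd (by omega) h5
    have h7 : 1 * (q - 1) < (q + 1) * (q - 1) := Nat.mul_lt_mul_of_pos_right (by omega) (by omega)
    omega
  -- λ with `τ λ = - λ`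
  obtain ⟨l, hl0, hl⟩ : ∃ l : F, l ≠ 0 ∧ τ l = -l := by
    obtain ⟨a, ha⟩ := hne
    refine ⟨a - τ a, sub_ne_zero.2 ha.symm, ?_⟩
    rw [map_sub, hττ, neg_sub]
  -- `i`
  obtain ⟨i, hi⟩ : ∃ i : F, i * i = -1 := by
    have hodd : ¬ 2 ∣ q := by
      intro h
      have h3 : (Fintype.card F : F) = 0 := by
        obtain ⟨p, hp⟩ := CharP.exists F
        obtain ⟨n, hpp, hn⟩ := FiniteField.card F p
        rw [hn, Nat.cast_pow, CharP.cast_eq_zero F p, zero_pow n.pos.ne']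
      rw [hF] at h3
      obtain ⟨p, hp⟩ := CharP.exists F
      obtain ⟨n, hpp, hn⟩ := FiniteField.card F p
      have h4 : 2 ∣ p ^ (n : ℕ) := by
        rw [← hn, hF]; exact dvd_pow h two_ne_zero
      have h5 := (Nat.prime_dvd_prime_iff_eq Nat.prime_two hpp).1 (Nat.prime_two.dvd_of_dvd_pow h4)
      subst h5
      apply h2
      exact CharP.cast_eq_zero F 2
    have h3 : IsSquare (-1 : F) := by
      rw [FiniteField.isSquare_neg_one_iff, hF]
      have h4 : q % 4 = 1 ∨ q % 4 = 3 := by omega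
      rw [pow_two, Nat.mul_mod]
      rcases h4 with h4 | h4 <;> rw [h4] <;> decide
    obtain ⟨i, hi⟩ := h3
    exact ⟨i, hi.symm⟩
  have hti : τ i = i ∨ τ i = -i := by
    have h3 : τ i * τ i = i * i := by rw [← map_mul, hi, map_neg, map_one]
    exact mul_self_eq_mul_self_iff.1 h3
  have mkU : ∀ x y : F, x ^ 2 + y ^ 2 ≠ 0 → x * τ x + y * τ y = 1 → x * τ y = y * τ x →
      ∃ g ∈ (famU τ).L (Fin 2), g = !![x, -y; y, x] := by
    intro x y h h3 h4
    refine ⟨Matrix.GeneralLinearGroup.mkOfDetNeZero !![x, -y; y, x] ?_, ?_, rfl⟩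
    · rw [Matrix.det_fin_two_of]
      intro h3
      apply h
      linear_combination h3
    · rw [mem_famU]
      show (!![x, -y; y, x])ᵀ * (!![x, -y; y, x]).map τ = 1
      ext a b
      fin_cases a <;> fin_cases b <;> simp [Matrix.mul_apply, Fin.sum_univ_two]
      · linear_combination h3
      · linear_combination -h4
      · linear_combination h4
      · linear_combination h3
  refine ⟨_, BaseTwo.good (famU τ) h2 ?_ ?_ ?_ ?_⟩
  · rw [mem_famU, BaseTwo.ph_val]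
    ext a b
    fin_cases a <;> fin_cases b <;> simp [Matrix.mul_apply, Fin.sum_univ_two]
  · rw [mem_famU, BaseTwo.J_val]
    ext a b
    fin_cases a <;> fin_cases b <;> simp [Matrix.mul_apply, Fin.sum_univ_two]
  · have h3 : τ (2⁻¹ : F) = 2⁻¹ := by rw [map_inv₀, map_ofNat]
    obtain ⟨s, hs0, hs⟩ := HermBasic.exists_norm_eq_ne hF (c := (2⁻¹ : F)) (by rw [← hτa, h3]) (inv_ne_zero h2)
    rw [← hτa] at hs
    have h4 : s * τ s + s * τ s = 1 := by
      rw [hs, ← two_mul, mul_inv_cancel₀ h2]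
    obtain ⟨g, hg, hg'⟩ := mkU s s (by
      intro h
      have h5 : 2 * (s * s) = 0 := by linear_combination h
      rcases mul_eq_zero.1 h5 with h6 | h6
      · exact h2 h6
      · exact hs0 (mul_self_eq_zero.1 h6)) h4 rfl
    exact ⟨g, hg, s, hs0, hg'⟩
  · rcases hti with h | h
    · -- `x = (λ - λ⁻¹)/2, y = i (λ + λ⁻¹)/2`
      obtain ⟨t, ht⟩ : ∃ t : F, 2 * t = 1 := ⟨2⁻¹, mul_inv_cancel₀ h2⟩
      obtain ⟨m, hm⟩ : ∃ m : F, l * m = 1 := ⟨l⁻¹, mul_inv_cancel₀ hl0⟩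
      have htt : τ t = t := by
        have h5 : 2 * τ t = 1 := by
          rw [show (2 : F) = τ 2 by rw [map_ofNat], ← map_mul, ht, map_one]
        exact mul_left_cancel₀ h2 (h5.trans ht.symm)
      have hmt : τ m = -m := by
        have h5 : l * (-τ m) = 1 := by
          rw [mul_neg, ← neg_mul, ← hl, ← map_mul, hm, map_one]
        exact neg_eq_iff_eq_neg.1 (mul_left_cancel₀ hl0 (h5.trans hm.symm))
      have hx : ((l - m) * t) ^ 2 + (i * (l + m) * t) ^ 2 = -1 := by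
        linear_combination (t ^ 2 * (l + m) ^ 2) * hi - (4 * t ^ 2) * hm - (2 * t + 1) * ht
      have h7 : τ ((l - m) * t) = -((l - m) * t) := by
        rw [map_mul, map_sub, hl, hmt, htt]; ring
      have h8 : τ (i * (l + m) * t) = -(i * (l + m) * t) := by
        rw [map_mul, map_mul, map_add, hl, hmt, htt, h]; ring
      obtain ⟨g, hg, hg'⟩ := mkU ((l - m) * t) (i * (l + m) * t) (by
        rw [hx]; exact neg_ne_zero.2 one_ne_zero) (by
        rw [h7, h8]; linear_combination -hx) (by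
        rw [h7, h8]; ring)
      exact ⟨g, hg, _, _, hx, hg'⟩
    · have hx : i ^ 2 + (0 : F) ^ 2 = -1 := by linear_combination hi
      obtain ⟨g, hg, hg'⟩ := mkU i 0 (by
        rw [hx]; exact neg_ne_zero.2 one_ne_zero) (by
        rw [h, map_zero]; linear_combination -hi) (by
        rw [map_zero]; ring)
      exact ⟨g, hg, _, _, hx, hg'⟩

theorem exists_self [Finite F] (h2 : (2 : F) ≠ 0) (𝓕 : Fam F)
    (hneg : ∀ (ι : Type) [Fintype ι] [DecidableEq ι], (-1 : GL ι F) ∈ 𝓕.L ι)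
    {R : Subgroup (GL (Fin 2) F)} (hR : Good 𝓕 R) {w : ℕ} (hw : 2 ≤ w) :
    ∃ (κ : Type) (_ : Fintype κ) (_ : DecidableEq κ) (_ : Fin (2 ^ w) ≃ κ) (T : Subgroup (GL κ F)),
      T ≤ sl (𝓕.L κ) ∧ (∀ t ∈ T, ∃ k : ℕ, t ^ 2 ^ k = 1) ∧
      ∀ x ∈ sl (𝓕.L κ), (∀ t ∈ T, x * t * x⁻¹ ∈ T) → x ∈ T := by
  obtain ⟨k, rfl⟩ : ∃ k, w = k + 2 := ⟨w - 2, by omega⟩
  obtain ⟨ι, _, _, _, R, hc, hG⟩ := exists_good h2 𝓕 hneg hR k
  have hc2 : Fintype.card (ι ⊕ ι) = 2 ^ (k + 2) := by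
    rw [Fintype.card_sum, hc]; ring
  have hev : Even (Fintype.card ι) := by rw [hc, pow_succ]; exact even_two.mul_left _
  have hG' := hG.step h2 hev (hneg ι)
  refine ⟨ι ⊕ ι, inferInstance, inferInstance, Fintype.equivOfCardEq (by rw [hc2, Fintype.card_fin]), sl (wr R),
    fun t ht => ⟨hG'.le ht.1, ht.2⟩, fun t ht => hG'.two t ht.1, fun x hx hxT => ?_⟩
  exact selfNorm h2 hev hG (hneg ι) hc2 hx hxT

theorem selfNorm_PSL [Finite F] (h2 : (2 : F) ≠ 0) {w : ℕ} (hw : 2 ≤ w)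
    (S : Sylow 2 (ProjectiveSpecialLinearGroup (Fin (2 ^ w)) F)) :
    Subgroup.normalizer ((S : Subgroup (ProjectiveSpecialLinearGroup (Fin (2 ^ w)) F)) : Set (ProjectiveSpecialLinearGroup (Fin (2 ^ w)) F)) ≤
      (S : Subgroup (ProjectiveSpecialLinearGroup (Fin (2 ^ w)) F)) := by
  obtain ⟨R, hR⟩ := good_GL h2
  obtain ⟨κ, _, _, e, T, hT1, hT2, hT3⟩ := exists_self h2 famGL (fun _ _ _ => Subgroup.mem_top _) hR hw
  refine SelfNorm.quot_of_hom (G := SpecialLinearGroup (Fin (2 ^ w)) F) (emb e) (emb_inj e) T ?_ hT2 ?_ S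
  · intro t ht
    rw [mem_range_emb]
    exact (hT1 ht).2
  · intro x hx
    rw [mem_range_emb] at hx
    exact hT3 x ⟨Subgroup.mem_top _, hx⟩

theorem selfNorm_PSU [Fintype F] {q : ℕ} (hF : Fintype.card F = q ^ 2) (h2 : (2 : F) ≠ 0) {w : ℕ} (hw : 2 ≤ w)
    (S : Sylow 2 (PSU (2 ^ w) F q)) :
    Subgroup.normalizer ((S : Subgroup (PSU (2 ^ w) F q)) : Set (PSU (2 ^ w) F q)) ≤ (S : Subgroup (PSU (2 ^ w) F q)) := by
  obtain ⟨R, hR⟩ := good_U hF h2
  obtain ⟨κ, _, _, e, T, hT1, hT2, hT3⟩ := exists_self h2 (famU (GUOrder.frob hF))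
    (fun _ _ _ => neg_one_mem_famU _ _) hR hw
  have hr : ∀ g : SpecialLinearGroup (Fin (2 ^ w)) F, g ∈ SU (2 ^ w) F q ↔ emb e g ∈ (famU (GUOrder.frob hF)).L κ := by
    intro g
    have h1 : g ∈ SU (2 ^ w) F q ↔ (g : Matrix (Fin (2 ^ w)) (Fin (2 ^ w)) F)ᵀ *
        (g : Matrix (Fin (2 ^ w)) (Fin (2 ^ w)) F).map (GUOrder.frob hF) = 1 :=
      GUOrder.mul_map_eq_one_iff hF _
    have h3 : (reindex e e (g : Matrix (Fin (2 ^ w)) (Fin (2 ^ w)) F))ᵀ *
        (reindex e e (g : Matrix (Fin (2 ^ w)) (Fin (2 ^ w)) F)).map (GUOrder.frob hF) =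
        reindex e e ((g : Matrix (Fin (2 ^ w)) (Fin (2 ^ w)) F)ᵀ *
          (g : Matrix (Fin (2 ^ w)) (Fin (2 ^ w)) F).map (GUOrder.frob hF)) := by
      ext a b
      simp only [reindex_apply, Matrix.mul_apply, submatrix_apply, transpose_apply, Matrix.map_apply]
      exact (Equiv.sum_comp e.symm (fun c => (g : Matrix (Fin (2 ^ w)) (Fin (2 ^ w)) F) c (e.symm a) *
        GUOrder.frob hF ((g : Matrix (Fin (2 ^ w)) (Fin (2 ^ w)) F) c (e.symm b))))
    rw [h1, mem_famU, emb_val, h3]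
    constructor
    · intro h
      rw [h]
      exact submatrix_one_equiv _
    · intro h
      apply (reindex e e).injective
      rw [h]
      exact (submatrix_one_equiv _).symm
  refine SelfNorm.quot_of_hom (G := SU (2 ^ w) F q) ((emb e).comp (SU (2 ^ w) F q).subtype)
    ((emb_inj e).comp (SU (2 ^ w) F q).subtype_injective) T ?_ hT2 ?_ S
  · intro t ht
    obtain ⟨g, hg⟩ := (mem_range_emb e t).2 (hT1 ht).2
    refine ⟨⟨g, (hr g).2 ?_⟩, hg⟩
    rw [hg]
    exact (hT1 ht).1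
  · rintro x ⟨g, rfl⟩
    exact hT3 _ ⟨(hr g.1).1 g.2, (mem_range_emb e _).1 ⟨g.1, rfl⟩⟩

end Cfsg.Agent.H95.OddNorm
end

-- part: H95/EvenRGD
section
/-!
# Pronormality in groups with a root group datum with abelian torus (helper95)

* `T_le_normalizer` : the torus `T`, if abelian, normalises every overgroup of `U`;
* `isPronormal` : if `T` is abelian and the root groups and `T` generate, all subgroups of index prime to `p` are
  pronormal.
-/

set_option autoImplicit false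
set_option linter.unusedSectionVars false

namespace Cfsg.Agent.H95.EvenRGD

open CoxeterSystem Cfsg.Agent.ChevalleyStructure.CoxeterGeom Cfsg.Agent.Tits.Roots Cfsg.Agent.Tits.Core
  Cfsg.Agent.Tits.RootComb Cfsg.Agent.Tits.Exchange Cfsg.Agent.Nodes.Reps Cfsg.Agent.Nodes.BNOf
  Cfsg.Agent.Nodes.StabComb Cfsg.Agent.Nodes.Bruhat Cfsg.Agent.Nodes.OppDec Cfsg.Agent.Nodes.LeviDec
  Cfsg.Agent.H1.Over

variable {I W Y : Type*} [Fintype I] [DecidableEq I] [Group W] [Group Y] {M : CoxeterMatrix I}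
  {cs : CoxeterSystem M W} {A : I → I → ℤ} {h : IsCartan M A} {p : ℕ} {T : Subgroup Y} {n : I → Y}
  {X : (I → ℤ) → Subgroup Y}

variable (R : RGD cs h p T n X) {H : Subgroup Y}

include R

/-- **an abelian torus normalises the overgroups of `U`** -/
theorem T_le_normalizer [Finite W] (hU : RGD.Sup X (RGD.Pos cs h) ≤ H) (hG : H ≤ GG cs h T X)
    (hT : ∀ a ∈ T, ∀ b ∈ T, a * b = b * a) : T ≤ Subgroup.normalizer (H : Set Y) := by
  have key : ∀ t ∈ T, ∀ g ∈ H, t * g * t⁻¹ ∈ H := by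
    intro t ht g hg
    obtain ⟨l, hl, v, hv, rfl⟩ := (mem_PJ R).1 (le_PJ R hU hG hg)
    have hTn := R.T_le_normalizer (S := RootsJ cs h (JH X H)) fun x hx => hx.1
    have hl' : ∃ t' ∈ T, ∃ m ∈ RGD.Sup X (RootsJ cs h (JH X H)), t' * m = l := by
      have h1 : l ∈ ((T ⊔ RGD.Sup X (RootsJ cs h (JH X H)) : Subgroup Y) : Set Y) := hl
      rw [Subgroup.coe_mul_of_left_le_normalizer_right _ _ hTn, Set.mem_mul] at h1
      exact h1
    obtain ⟨t', ht', m, hm, rfl⟩ := hl'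
    have hmH := rootsJ_le R hU hm
    have hvH := hU (VJ_le_U _ hv)
    have ht'H : t' ∈ H := by
      have h1 := mul_mem hg (inv_mem (mul_mem hmH hvH))
      have e : t' * m * v * (m * v)⁻¹ = t' := by group
      rwa [e] at h1
    have h2 : t * m * t⁻¹ ∈ H := rootsJ_le R hU ((Subgroup.mem_normalizer_iff.1 (hTn ht) m).1 hm)
    have h3 : t * v * t⁻¹ ∈ H :=
      hU ((Subgroup.mem_normalizer_iff.1 (R.T_le_normalizer_U ht) v).1 (VJ_le_U _ hv))
    have e : t * (t' * m * v) * t⁻¹ = t' * (t * m * t⁻¹) * (t * v * t⁻¹) := by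
      calc t * (t' * m * v) * t⁻¹ = (t * t') * m * v * t⁻¹ := by group
        _ = (t' * t) * m * v * t⁻¹ := by rw [hT t ht t' ht']
        _ = t' * (t * m * t⁻¹) * (t * v * t⁻¹) := by group
    rw [e]
    exact mul_mem (mul_mem ht'H h2) h3
  intro t ht
  rw [Subgroup.mem_normalizer_iff]
  intro g
  constructor
  · exact key t ht g
  · intro hg
    have h1 := key t⁻¹ (inv_mem ht) _ hg
    have e : t⁻¹ * (t * g * t⁻¹) * t⁻¹⁻¹ = g := by group
    rwa [e] at h1

/-- **pronormality** -/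
theorem isPronormal [Finite W] [Finite Y] [Fact p.Prime] (hG : GG cs h T X = ⊤)
    (hT : ∀ a ∈ T, ∀ b ∈ T, a * b = b * a) (H : Subgroup Y) (hH : ¬ p ∣ H.index) : Cfsg.IsPronormal H := by
  obtain ⟨S, hS⟩ := H94.Pronormal.exists_sylow_le H hH
  have hidx := KFacts.RgdSyl.not_dvd_relIndex R
  rw [hG, Subgroup.relIndex_top_right] at hidx
  obtain ⟨g, hg⟩ := MulAction.exists_smul_eq Y S (R.isPGroup_Upos.toSylow hidx)
  have hgU : ∀ x : Y, x ∈ RGD.Sup X (RGD.Pos cs h) ↔ g⁻¹ * x * g ∈ (S : Subgroup Y) := by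
    intro x
    have h1 : x ∈ RGD.Sup X (RGD.Pos cs h) ↔ x ∈ ((g • S : Sylow p Y) : Subgroup Y) := by
      rw [hg]; rfl
    rw [h1, Sylow.coe_subgroup_smul]
    constructor
    · rintro ⟨y, hy, rfl⟩
      have e : g⁻¹ * (g * y * g⁻¹) * g = y := by group
      show g⁻¹ * (g * y * g⁻¹) * g ∈ _
      rw [e]; exact hy
    · intro h
      exact ⟨g⁻¹ * x * g, h, by show g * (g⁻¹ * x * g) * g⁻¹ = x; group⟩
  -- `H' = g H g⁻¹`
  obtain ⟨H', hH'⟩ : ∃ H' : Subgroup Y, H' = H.map (MulAut.conj g).toMonoidHom := ⟨_, rfl⟩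
  have hmem : ∀ x : Y, x ∈ H' ↔ g⁻¹ * x * g ∈ H := by
    intro x
    rw [hH']
    constructor
    · rintro ⟨y, hy, rfl⟩
      have e : g⁻¹ * (g * y * g⁻¹) * g = y := by group
      show g⁻¹ * (g * y * g⁻¹) * g ∈ _
      rw [e]; exact hy
    · intro h
      exact ⟨g⁻¹ * x * g, h, by show g * (g⁻¹ * x * g) * g⁻¹ = x; group⟩
  have hU : RGD.Sup X (RGD.Pos cs h) ≤ H' := fun x hx => (hmem x).2 (hS ((hgU x).1 hx))
  have hB : Subgroup.normalizer (RGD.Sup X (RGD.Pos cs h) : Set Y) ≤ Subgroup.normalizer (H' : Set Y) := by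
    have h1 := Nodes.NormalForm.normalizer_U R
    rw [hG, inf_top_eq] at h1
    rw [h1]
    unfold RGD.B
    exact sup_le (T_le_normalizer R hU (by rw [hG]; exact le_top) hT) (hU.trans Subgroup.le_normalizer)
  refine H94.Pronormal.isPronormal_of_normalizer_le S H hS ?_
  intro x hx
  have h2 : g * x * g⁻¹ ∈ Subgroup.normalizer (RGD.Sup X (RGD.Pos cs h) : Set Y) := by
    rw [Subgroup.mem_normalizer_iff] at hx ⊢
    intro y
    have h3 := hx (g⁻¹ * y * g)
    have e : x * (g⁻¹ * y * g) * x⁻¹ = g⁻¹ * (g * x * g⁻¹ * y * (g * x * g⁻¹)⁻¹) * g := by group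
    rw [e] at h3
    exact (hgU y).trans (h3.trans (hgU _).symm)
  have h3 := hB h2
  rw [Subgroup.mem_normalizer_iff] at h3 ⊢
  intro y
  have h4 := h3 (g * y * g⁻¹)
  rw [hmem, hmem] at h4
  have e1 : g⁻¹ * (g * y * g⁻¹) * g = y := by group
  have e2 : g⁻¹ * (g * x * g⁻¹ * (g * y * g⁻¹) * (g * x * g⁻¹)⁻¹) * g = x * y * x⁻¹ := by group
  rw [e1, e2] at h4
  exact h4

end Cfsg.Agent.H95.EvenRGD
end
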